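import Groth.Agent.L01.UnipSplit.SmoothKer
import Mathlib.RingTheory.PowerBasis
import Mathlib.Algebra.Polynomial.Taylor
import Mathlib.RingTheory.Flat.Basic

/-!
# The minimal polynomial of a primitive element is additive
-/

universe u

open TensorProduct Polynomial
open Groth.L01.SmoothKer (IsPrim)
open Algebra.TensorProduct (includeLeft includeRight)

set_option autoImplicit false
set_option linter.style.haveILetI false
set_option maxHeartbeats 1000000

noncomputable section

namespace Groth.L07.DDAff

variable {k : Type u} [Field k] {B : Type u} [CommRing B] [HopfAlgebra k B]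

theorem minpoly_additive {g : B} (hg : IsPrim (k := k) g) (hint : IsIntegral k g) {A : Type u} [CommRing A]
    [Algebra k A] (x y : A) : aeval (x + y) (minpoly k g) = aeval x (minpoly k g) + aeval y (minpoly k g) := by
  classical
  set f := minpoly k g
  set d := f.natDegree
  have hmon : f.Monic := minpoly.monic hint
  haveI : Nontrivial B := (Bialgebra.counitAlgHom k B).toRingHom.domain_nontrivial
  let F : B[X] := f.map (algebraMap k B)
  have hFd : F.natDegree = d := hmon.natDegree_map _
  let q : B[X] := taylor g F - F
  let ρ : B[X] →+* B ⊗[k] B :=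
    eval₂RingHom (includeLeft : B →ₐ[k] B ⊗[k] B).toRingHom ((1 : B) ⊗ₜ g)
  have hρF : ∀ z : B, (taylor z F).eval₂ (includeLeft : B →ₐ[k] B ⊗[k] B).toRingHom ((1 : B) ⊗ₜ g) =
      aeval (z ⊗ₜ[k] (1 : B) + (1 : B) ⊗ₜ g) f := fun z => by
    rw [taylor_apply, eval₂_comp, eval₂_add, eval₂_X, eval₂_C, eval₂_map, aeval_def, AlgHom.toRingHom_eq_coe,
      AlgHom.comp_algebraMap, add_comm]
    rfl
  have hq : ρ q = 0 := by
    show eval₂RingHom _ _ (taylor g F - F) = 0
    rw [map_sub, sub_eq_zero, coe_eval₂RingHom, hρF]
    have h0 : aeval (g ⊗ₜ[k] (1 : B) + (1 : B) ⊗ₜ g) f = 0 := by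
      rw [show g ⊗ₜ[k] (1 : B) + (1 : B) ⊗ₜ g = Bialgebra.comulAlgHom k B g from (hg).symm, aeval_algHom_apply,
        minpoly.aeval, map_zero]
    rw [h0, eval₂_map, AlgHom.toRingHom_eq_coe, AlgHom.comp_algebraMap, ← aeval_def]
    rw [show (1 : B) ⊗ₜ[k] g = (includeRight : B →ₐ[k] B ⊗[k] B) g from rfl, aeval_algHom_apply, minpoly.aeval, map_zero]
  have hqd : q.natDegree < d := by
    have hd : 0 < d := minpoly.natDegree_pos hint
    refine lt_of_le_of_ne ?_ ?_
    · refine (natDegree_sub_le _ _).trans ?_
      rw [natDegree_taylor, hFd, max_self]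
    · intro hqd
      have : q.coeff d = 0 := by
        show (taylor g F - F).coeff d = 0
        rw [coeff_sub]
        have h1 : (taylor g F).coeff (taylor g F).natDegree = F.coeff F.natDegree := by
          rw [natDegree_taylor, taylor_coeff, ← natDegree_taylor F g]
          have : hasseDeriv F.natDegree F = C F.leadingCoeff := by
            ext n
            rw [hasseDeriv_coeff, coeff_C]
            rcases n with _ | n
            · rw [Nat.zero_add, Nat.choose_self, Nat.cast_one, one_mul, if_pos rfl]
              rfl
            · rw [if_neg (Nat.succ_ne_zero n), coeff_eq_zero_of_natDegree_lt (by omega), mul_zero]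
          rw [natDegree_taylor, this, eval_C, leadingCoeff]
        rw [natDegree_taylor, hFd] at h1
        rw [h1, sub_self]
      rw [← hqd] at this
      have hq0 : q = 0 := leadingCoeff_eq_zero.1 this
      rw [hq0, natDegree_zero] at hqd
      omega
  have hq0 : q = 0 := by
    obtain ⟨φ, hφ'⟩ := LinearMap.exists_leftInverse_of_injective (Finsupp.linearCombination k fun i : Fin d => g ^ (i : ℕ))
      (LinearMap.ker_eq_bot.2 (linearIndependent_pow (K := k) g))
    have hφ : ∀ v, φ (Finsupp.linearCombination k (fun i : Fin d => g ^ (i : ℕ)) v) = v := LinearMap.congr_fun hφ'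
    refine Polynomial.ext fun n => ?_
    rw [coeff_zero]
    by_cases hn : n < d
    · have h := congrArg (fun z : B ⊗[k] B => TensorProduct.rid k B
        (((Finsupp.lapply ⟨n, hn⟩ : (Fin d →₀ k) →ₗ[k] k) ∘ₗ φ).lTensor B z)) hq
      simp only [map_zero] at h
      rw [show ρ q = eval₂ _ _ q from rfl, eval₂_eq_sum_range' _ hqd, map_sum, map_sum] at h
      rw [← h, Finset.sum_eq_single_of_mem n (Finset.mem_range.2 hn)]
      · have : φ (g ^ n) = Finsupp.single ⟨n, hn⟩ 1 := by
          have := hφ (Finsupp.single (⟨n, hn⟩ : Fin d) 1)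
          rwa [Finsupp.linearCombination_single, one_smul] at this
        simp [Algebra.TensorProduct.tmul_pow, this]
      · intro b hb hne
        have hb' : b < d := Finset.mem_range.1 hb
        have : φ (g ^ b) = Finsupp.single ⟨b, hb'⟩ 1 := by
          have := hφ (Finsupp.single (⟨b, hb'⟩ : Fin d) 1)
          rwa [Finsupp.linearCombination_single, one_smul] at this
        simp [Algebra.TensorProduct.tmul_pow, this, Finsupp.single_apply, hne]
    · exact coeff_eq_zero_of_natDegree_lt (by omega)
  have hj : ∀ j, 0 < j → hasseDeriv j f = C (f.coeff j) := fun j hj => by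
    by_contra hne
    have h0 : hasseDeriv j f - C (f.coeff j) ≠ 0 := sub_ne_zero.2 hne
    have hdeg := minpoly.degree_le_of_ne_zero k g h0 (by
      have h := congrArg (fun z : B[X] => z.coeff j) (sub_eq_zero.1 (hq0 : taylor g F - F = 0))
      simp only [taylor_coeff, F, coeff_map] at h
      rw [map_sub, aeval_C, sub_eq_zero, ← h]
      rw [show hasseDeriv j (f.map (algebraMap k B)) = (hasseDeriv j f).map (algebraMap k B) from
        Polynomial.ext fun n => by simp [hasseDeriv_coeff], eval_map, aeval_def])
    have hlt : (hasseDeriv j f - C (f.coeff j)).natDegree < d := by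
      have hd : 0 < d := minpoly.natDegree_pos hint
      refine lt_of_le_of_lt (natDegree_sub_le _ _) (max_lt ?_ ?_)
      · exact lt_of_le_of_lt (natDegree_hasseDeriv_le f j) (by omega)
      · rw [natDegree_C]; exact hd
    rw [degree_eq_natDegree (minpoly.ne_zero hint), degree_eq_natDegree h0] at hdeg
    exact absurd (Nat.cast_le.1 hdeg) (not_le.2 hlt)
  have h0 : f.coeff 0 = 0 := by
    have h := congrArg (Bialgebra.counitAlgHom k B) (minpoly.aeval k g)
    rw [← aeval_algHom_apply, Bialgebra.counitAlgHom_apply, hg.counit, map_zero] at h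
    rwa [← coeff_zero_eq_aeval_zero'] at h
  have key : taylor x (f.map (algebraMap k A)) = f.map (algebraMap k A) + C (aeval x f) := by
    refine Polynomial.ext fun n => ?_
    rw [coeff_add, coeff_C]
    rcases n with _ | n
    · rw [taylor_coeff_zero, coeff_map, h0, map_zero, zero_add, if_pos rfl, eval_map, aeval_def]
    · rw [if_neg (Nat.succ_ne_zero n), add_zero, taylor_coeff, show hasseDeriv (n + 1) (f.map (algebraMap k A)) =
        (hasseDeriv (n + 1) f).map (algebraMap k A) from Polynomial.ext fun m => by simp [hasseDeriv_coeff],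
        hj _ (Nat.succ_pos n), Polynomial.map_C, eval_C, coeff_map]
  have h := congrArg (Polynomial.eval y) key
  rw [taylor_eval, eval_add, eval_C, eval_map, eval_map, ← aeval_def, ← aeval_def, add_comm y x] at h
  rw [h, add_comm]

end Groth.L07.DDAff
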