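import Groth.Agent.L08.AugGraded
import Groth.Agent.L07.ExtShAff.MultType
import Mathlib.Algebra.Polynomial.Taylor
import Mathlib.Algebra.Polynomial.Derivative

/-!
# The exponential of a locally nilpotent invariant derivation
-/

universe u

open TensorProduct Polynomial
open Groth.L08 (fAct)
open Groth.L08.AugGraded (fAct_leibniz IsTangent)
open WithConv

set_option autoImplicit false
set_option backward.isDefEq.respectTransparency false
set_option linter.style.haveILetI false
set_option maxHeartbeats 1000000

noncomputable section

namespace Groth.L07.DDAff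

variable {k : Type u} [Field k] [CharZero k] {A : Type u} [CommRing A] [HopfAlgebra k A]
  {D : A →ₗ[k] k} (hD : IsTangent k A D) (hnil : ∀ a : A, ∃ N : ℕ, (fAct A D ^ N) a = 0)

local notation "ε" => Bialgebra.counitAlgHom k A

omit [CharZero k] in
theorem pow_succ_apply' (n : ℕ) (a : A) : (fAct A D ^ (n + 1)) a = (fAct A D ^ n) (fAct A D a) := by
  rw [pow_succ]; rfl

/-- the exponential, as a polynomial -/
def expPol (a : A) : k[X] :=
  ∑ n ∈ Finset.range (Classical.choose (hnil a)), monomial n ((n.factorial : k)⁻¹ * ε ((fAct A D ^ n) a))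

theorem coeff_expPol (a : A) (n : ℕ) :
    (expPol hnil a).coeff n = (n.factorial : k)⁻¹ * ε ((fAct A D ^ n) a) := by
  rw [expPol, finsetSum_coeff]
  simp only [coeff_monomial]
  rw [Finset.sum_ite_eq' (Finset.range _) n]
  split_ifs with h
  · rfl
  · have h0 := Classical.choose_spec (hnil a)
    obtain ⟨m, hm⟩ := Nat.exists_eq_add_of_le (not_lt.1 (fun h' => h (Finset.mem_range.2 h')))
    rw [show n = m + Classical.choose (hnil a) by omega, pow_add, Module.End.mul_apply, h0, map_zero, map_zero, mul_zero]

theorem derivative_expPol (a : A) : derivative (expPol hnil a) = expPol hnil (fAct A D a) := by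
  refine Polynomial.ext fun n => ?_
  rw [coeff_derivative, coeff_expPol, coeff_expPol, ← pow_succ_apply', Nat.factorial_succ, Nat.cast_mul]
  have h1 : ((n.factorial : k)) ≠ 0 := Nat.cast_ne_zero.2 (Nat.factorial_ne_zero n)
  have h2 : ((n : k) + 1) ≠ 0 := Nat.cast_add_one_ne_zero n
  push_cast
  field_simp

omit [CharZero k] in
theorem expPol_coeff_zero [CharZero k] (a : A) : (expPol hnil a).coeff 0 = ε a := by
  rw [coeff_expPol]
  simp

theorem eq_of_derivative_eq {R : Type u} [CommRing R] [Algebra k R] {P Q : R[X]} (h : derivative P = derivative Q)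
    (h0 : P.coeff 0 = Q.coeff 0) : P = Q := by
  refine Polynomial.ext fun n => ?_
  rcases n with _ | n
  · exact h0
  · have h' := congrArg (fun z : R[X] => z.coeff n) h
    simp only [coeff_derivative] at h'
    have hu : IsUnit ((n : R) + 1) := by
      rw [show ((n : R) + 1) = algebraMap k R ((n : k) + 1) by simp]
      exact (IsUnit.mk0 _ (Nat.cast_add_one_ne_zero n)).map _
    exact hu.mul_right_cancel h'

include hD in
theorem fAct_one' : fAct A D (1 : A) = 0 := by
  have h := fAct_leibniz hD (1 : A) 1
  rw [one_mul, one_smul] at h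
  exact left_eq_add.1 h

include hD in
theorem expPol_mul_aux : ∀ (s N M : ℕ) (a b : A), N + M = s → (fAct A D ^ N) a = 0 → (fAct A D ^ M) b = 0 →
    expPol hnil (a * b) = expPol hnil a * expPol hnil b := by
  intro s
  induction s using Nat.strong_induction_on with
  | _ s ih =>
    intro N M a b hs ha hb
    have h0 : ∀ z : A, z = 0 → expPol hnil z = 0 := fun z hz => Polynomial.ext fun n => by
      rw [coeff_expPol, hz, map_zero, map_zero, mul_zero, coeff_zero]
    rcases N with _ | N
    · have : a = 0 := ha
      rw [h0 (a * b) (by rw [this, zero_mul]), h0 a this, zero_mul]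
    rcases M with _ | M
    · have : b = 0 := hb
      rw [h0 (a * b) (by rw [this, mul_zero]), h0 b this, mul_zero]
    refine eq_of_derivative_eq (k := k) ?_ ?_
    · rw [derivative_mul, derivative_expPol, derivative_expPol, derivative_expPol, fAct_leibniz hD, smul_eq_mul,
        smul_eq_mul]
      have e1 := ih (N + 1 + M) (by omega) (N + 1) M a (fAct A D b) rfl ha (by rw [← pow_succ_apply']; exact hb)
      have e2 := ih (N + (M + 1)) (by omega) N (M + 1) (fAct A D a) b rfl (by rw [← pow_succ_apply']; exact ha) hb
      rw [mul_comm b, ← e1, ← e2]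
      refine Polynomial.ext fun n => ?_
      rw [coeff_add, coeff_expPol, coeff_expPol, coeff_expPol, map_add, map_add, mul_add, add_comm]
    · rw [mul_coeff_zero, expPol_coeff_zero, expPol_coeff_zero, expPol_coeff_zero, map_mul]

/-- the exponential, as an algebra map -/
def expHom : A →ₐ[k] k[X] :=
  AlgHom.ofLinearMap
    { toFun := expPol hnil
      map_add' := fun a b => Polynomial.ext fun n => by
        rw [coeff_add, coeff_expPol, coeff_expPol, coeff_expPol, map_add, map_add, mul_add]
      map_smul' := fun c a => Polynomial.ext fun n => by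
        rw [RingHom.id_apply, coeff_smul, coeff_expPol, coeff_expPol, map_smul, map_smul, smul_eq_mul, smul_eq_mul,
          mul_left_comm] }
    (Polynomial.ext fun n => by
      show (expPol hnil 1).coeff n = _
      rw [coeff_expPol, coeff_one]
      rcases n with _ | n
      · simp
      · rw [pow_succ_apply', fAct_one' hD, map_zero, map_zero, mul_zero, if_neg (Nat.succ_ne_zero n)])
    fun a b => by
      obtain ⟨N, hN⟩ := hnil a
      obtain ⟨M, hM⟩ := hnil b
      exact expPol_mul_aux hD hnil _ N M a b rfl hN hM

theorem expHom_apply (a : A) : expHom hD hnil a = expPol hnil a := rfl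

omit [CharZero k] in
theorem comul_fAct (a : A) : Coalgebra.comul (R := k) (fAct A D a) =
    (fAct A D).lTensor A (Coalgebra.comul (R := k) a) := by
  let T : (A ⊗[k] A) ⊗[k] A →ₗ[k] A ⊗[k] A :=
    (TensorProduct.rid k (A ⊗[k] A)).toLinearMap ∘ₗ D.lTensor (A ⊗[k] A)
  let T' : A ⊗[k] (A ⊗[k] A) →ₗ[k] A ⊗[k] A :=
    ((TensorProduct.rid k A).toLinearMap ∘ₗ D.lTensor A).lTensor A
  have h1 : ∀ w : A ⊗[k] A, Coalgebra.comul (R := k) (TensorProduct.rid k A (D.lTensor A w)) =
      T ((Coalgebra.comul (R := k) (A := A)).rTensor A w) := fun w => by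
    induction w using TensorProduct.induction_on with
    | zero => simp
    | tmul p q => simp [T]
    | add p q hp hq => simp only [map_add, hp, hq]
  have h2 : ∀ w : (A ⊗[k] A) ⊗[k] A, T w = T' (TensorProduct.assoc k A A A w) := fun w => by
    induction w using TensorProduct.induction_on with
    | zero => simp
    | tmul pq r =>
      induction pq using TensorProduct.induction_on with
      | zero => simp
      | tmul p q => simp [T, T', TensorProduct.tmul_smul]
      | add p q hp hq => simp only [add_tmul, map_add, hp, hq]
    | add p q hp hq => simp only [map_add, hp, hq]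
  show Coalgebra.comul (R := k) (TensorProduct.rid k A (D.lTensor A (Coalgebra.comul (R := k) a))) = _
  rw [h1, h2, Coalgebra.coassoc_apply, ← LinearMap.comp_apply T', ← LinearMap.lTensor_comp]
  rfl

variable {R : Type u} [CommRing R] [Algebra k R]

/-- pairs: a value and a polynomial -/
def pairPol (r : R) : A ⊗[k] A →ₗ[k] R[X] :=
  LinearMap.mul' k R[X] ∘ₗ TensorProduct.map
    (((IsScalarTower.toAlgHom k R R[X]).comp ((aeval r).comp (expHom hD hnil))).toLinearMap)
    (((Polynomial.mapAlgHom (Algebra.ofId k R)).comp (expHom hD hnil)).toLinearMap)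

theorem pairPol_tmul (r : R) (p q : A) :
    pairPol hD hnil r (p ⊗ₜ q) = C (aeval r (expPol hnil p)) * (expPol hnil q).map (algebraMap k R) := rfl

theorem expHom_add (r s : R) : ∀ (N : ℕ) (a : A), (fAct A D ^ N) a = 0 →
    pairPol hD hnil r (Coalgebra.comul (R := k) a) = taylor r ((expPol hnil a).map (algebraMap k R))
  | 0, a, ha => by
    have : a = 0 := ha
    rw [this, map_zero, map_zero, show expPol hnil (0 : A) = 0 from map_zero (expHom hD hnil), Polynomial.map_zero,
      map_zero]
  | N + 1, a, ha => by
    have ih := expHom_add r s N (fAct A D a) (by rw [← pow_succ_apply']; exact ha)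
    refine eq_of_derivative_eq (k := k) ?_ ?_
    · rw [taylor_apply, derivative_comp, derivative_add, derivative_X, derivative_C, add_zero, one_mul, derivative_map,
        derivative_expPol, ← taylor_apply, ← ih, comul_fAct]
      induction Coalgebra.comul (R := k) a using TensorProduct.induction_on with
      | zero => simp
      | tmul p q =>
        rw [LinearMap.lTensor_tmul, pairPol_tmul, pairPol_tmul, derivative_C_mul, derivative_map, derivative_expPol]
      | add p q hp hq => simp only [map_add, hp, hq]
    · rw [taylor_coeff_zero, eval_map, ← aeval_def]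
      have h := congrArg (fun z => aeval r (expPol hnil z)) (LinearMap.congr_fun
        (show (TensorProduct.rid k A).toLinearMap ∘ₗ (Coalgebra.counit (R := k) (A := A)).lTensor A ∘ₗ Coalgebra.comul =
          LinearMap.id from LinearMap.ext fun z => by simp) a)
      refine Eq.trans ?_ h
      show _ = aeval r (expHom hD hnil (TensorProduct.rid k A ((Coalgebra.counit (R := k) (A := A)).lTensor A _)))
      induction Coalgebra.comul (R := k) a using TensorProduct.induction_on with
      | zero => simp
      | tmul p q =>
        rw [pairPol_tmul, mul_coeff_zero, coeff_C_zero, coeff_map, expPol_coeff_zero, LinearMap.lTensor_tmul,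
          TensorProduct.rid_tmul, map_smul, map_smul, expHom_apply, Algebra.smul_def, mul_comm]
        rfl
      | add p q hp hq => simp only [map_add, coeff_add, hp, hq]

/-- **the exponential is a homomorphism** -/
theorem mulPt_expHom (r s : R) :
    Groth.L07.ExtShAff.mulPt ((aeval r).comp (expHom hD hnil)) ((aeval s).comp (expHom hD hnil)) =
      (aeval (r + s)).comp (expHom hD hnil) := by
  refine AlgHom.ext fun a => ?_
  obtain ⟨N, hN⟩ := hnil a
  have h := congrArg (Polynomial.eval s) (expHom_add hD hnil r s N a hN)
  rw [taylor_eval, eval_map, ← aeval_def, add_comm s r] at h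
  refine Eq.trans ?_ h
  show (Algebra.TensorProduct.lmul' k) (Algebra.TensorProduct.map _ _ (Coalgebra.comul (R := k) a)) = _
  induction Coalgebra.comul (R := k) a using TensorProduct.induction_on with
  | zero => simp
  | tmul p q =>
    rw [Algebra.TensorProduct.map_tmul, Algebra.TensorProduct.lmul'_apply_tmul, pairPol_tmul, eval_mul, eval_C,
      eval_map, ← aeval_def]
    rfl
  | add p q hp hq => simp only [map_add, eval_add, hp, hq]

end Groth.L07.DDAff
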