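import Groth.Agent.L07.DDAff.Basic
import Groth.Agent.L07.DDAff.Additive
import Groth.Agent.L07.DDAff.Exp
import Groth.Agent.L07.ExtShAff.Prim
import Groth.Agent.L25.LargestMult.Split
import Groth.Agent.S13466

/-!
# The step given by a primitive element in characteristic zero
-/

universe u

open CategoryTheory CategoryTheory.Limits AlgebraicGeometry Opposite TensorProduct Polynomial
open MonoidalCategory CartesianMonoidalCategory
open scoped MonObj
open Groth.L08 (fAct)
open Groth.L08.AugGraded (IsTangent fAct_leibniz)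
open Groth.L07.ExtShAff (kq kq_surjective kerIdeal shortExact_seq mulPt isHopfSubalgebra_adjoin prodSP)
open Groth.L08.TorusQuot (SP spA sp toPt ofPt toPt_ofPt)
open Groth.L25.Bridge (P)
open Groth.L01.SmoothKer (IsPrim)
open Algebra.TensorProduct (includeLeft includeRight)
open WithConv

set_option autoImplicit false
set_option backward.isDefEq.respectTransparency false
set_option backward.isDefEq.respectTransparency.types false
set_option linter.style.haveILetI false
set_option maxHeartbeats 1000000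
set_option synthInstance.maxHeartbeats 200000

noncomputable section

namespace Groth.L07.DDAff

local notation "Kf" => Scheme.fppfPrecoverage

variable {k : Type u} [Field k] [CharZero k]

theorem aeval_injective_of_prim {A : Type u} [CommRing A] [HopfAlgebra k A] {g : A} (hg : IsPrim (k := k) g)
    (h0 : g ≠ 0) : Function.Injective (aeval g : k[X] →ₐ[k] A) := by
  by_contra hninj
  obtain ⟨q, hq, hq0⟩ : ∃ q : k[X], aeval g q = 0 ∧ q ≠ 0 := by
    by_contra hne
    push Not at hne
    exact hninj ((injective_iff_map_eq_zero _).2 hne)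
  have hint : IsIntegral k g := isAlgebraic_iff_isIntegral.1 ⟨q, hq0, hq⟩
  have h := minpoly_additive hg hint (X : k[X]) X
  rw [aeval_X_left_apply] at h
  have hn : ∀ n, n ≠ 1 → (minpoly k g).coeff n = 0 := fun n hn => by
    have h' := congrArg (fun z : k[X] => z.coeff n) h
    simp only [coeff_add] at h'
    rw [show (X : k[X]) + X = C 2 * X by rw [show (C (2 : k)) = (2 : k[X]) from C_ofNat 2]; ring] at h'
    rw [← Polynomial.comp_eq_aeval, Polynomial.comp_C_mul_X_coeff] at h'
    have h2 : ((2 : k) ^ n - 2) * (minpoly k g).coeff n = 0 := by linear_combination h'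
    refine (mul_eq_zero.1 h2).resolve_left fun he => hn ?_
    have : ((2 ^ n : ℕ) : k) = ((2 : ℕ) : k) := by push_cast; exact sub_eq_zero.1 he
    have h3 : (2 : ℕ) ^ n = 2 ^ 1 := by exact_mod_cast this
    exact Nat.pow_right_injective le_rfl h3
  have hd : (minpoly k g).natDegree = 1 := by
    by_contra hne
    have := (minpoly.monic hint).leadingCoeff
    rw [leadingCoeff, hn _ hne] at this
    exact zero_ne_one this
  have hX : minpoly k g = X := by
    refine Polynomial.ext fun n => ?_
    rw [coeff_X]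
    split_ifs with h1
    · subst h1
      have := (minpoly.monic hint).leadingCoeff
      rwa [leadingCoeff, hd] at this
    · exact hn n (Ne.symm h1)
  exact h0 (by rw [← aeval_X (R := k) g, ← hX, minpoly.aeval])

variable {A : Type u} [CommRing A] [HopfAlgebra k A] [Coalgebra.IsCocomm k A] [Algebra.FiniteType k A]

/-- a nonzero primitive is detected by a derivation at the counit -/
theorem exists_tangent {g : A} (hg : IsPrim (k := k) g) (h0 : g ≠ 0) :
    ∃ w : A →ₗ[k] k, IsTangent k A w ∧ w g ≠ 0 := by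
  obtain ⟨x, w, hx, hw, hwx, hspan⟩ := Groth.L08.AugGraded.exists_coords k A
  by_contra hne
  push Not at hne
  have hkill : ∀ i, fAct A (w i) g = 0 := fun i => by
    show TensorProduct.rid k A ((w i).lTensor A (Coalgebra.comul (R := k) g)) = 0
    rw [show Coalgebra.comul (R := k) g = _ from hg]
    have h1 : w i (1 : A) = 0 := by
      have h := hw i 1 1
      rw [one_mul, map_one (Bialgebra.counitAlgHom k _), one_mul] at h
      exact left_eq_add.1 h
    simp [h1, hne (w i) (hw i)]
  have hmem := Groth.L08.AugGraded.mem_pow_of_killed x w hx hw hwx hspan (a := g) hg.counit hkill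
  haveI : IsNoetherianRing A := Algebra.FiniteType.isNoetherianRing k A
  obtain ⟨⟨e, he⟩, hex⟩ := (Ideal.mem_iInf_smul_pow_eq_bot_iff (RingHom.ker (Bialgebra.counitAlgHom k A)) g).1
    ((Submodule.mem_iInf _).2 fun i => by rw [smul_eq_mul, Ideal.mul_top]; exact hmem i)
  let B := Algebra.adjoin k {g}
  letI := Groth.L25.HopfSub.hopfAlgebra (isHopfSubalgebra_adjoin hg)
  let ψ : B →ₐc[k] A := Groth.L25.HopfSub.inclBialg (isHopfSubalgebra_adjoin hg)
  have hψ : Function.Injective ψ := Subtype.val_injective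
  haveI : Algebra.FiniteType k B := (Subalgebra.fg_iff_finiteType _).1 ⟨{g}, by rw [Finset.coe_singleton]⟩
  haveI : Module.FaithfullyFlat B A := Groth.L25.HopfFlat.faithfullyFlat_of_fg hψ ψ fun _ => rfl
  let e' : k[X] ≃ₐ[k] (aeval g : k[X] →ₐ[k] A).range := AlgEquiv.ofInjective _ (aeval_injective_of_prim hg h0)
  haveI : IsDomain B := MulEquiv.isDomain_iff (((Subalgebra.equivOfEq _ _ (Algebra.adjoin_singleton_eq_range_aeval k g)).trans
    e'.symm).toMulEquiv) |>.2 inferInstance
  let g' : B := ⟨g, Algebra.self_mem_adjoin_singleton k g⟩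
  have hg'0 : g' ≠ 0 := fun h => h0 (congrArg Subtype.val h)
  have hreg : IsSMulRegular A g := (IsSMulRegular.of_flat (S := A) (x := g') fun a b hab =>
    mul_left_cancel₀ hg'0 hab : IsSMulRegular A (algebraMap B A g'))
  have : e = 1 := by
    refine hreg (?_ : g • e = g • (1 : A))
    rw [smul_eq_mul, smul_eq_mul, mul_one, mul_comm]
    exact hex
  rw [this, RingHom.mem_ker, map_one] at he
  exact one_ne_zero he

/-- a primitive has a locally nilpotent invariant derivation with value one -/
theorem exists_nilpotent_tangent {g : A} (hg : IsPrim (k := k) g) (h0 : g ≠ 0) :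
    ∃ D : A →ₗ[k] k, IsTangent k A D ∧ fAct A D g = 1 ∧ ∀ a : A, ∃ N : ℕ, (fAct A D ^ N) a = 0 := by
  haveI : PerfectField k := inferInstance
  let I := Groth.L25.LargestMult.I k A
  haveI : I.IsHopfIdeal k := Groth.L25.LargestMult.isHopfIdeal_I
  let π : A →ₐc[k] A ⧸ I := Bialgebra.Quotient.mkBialgHom (R := k) I
  haveI : Coalgebra.IsCocomm k (A ⧸ I) :=
    Groth.L25.MultSub.isCocomm_of_surjective π Ideal.Quotient.mk_surjective
  haveI : Algebra.FiniteType k (A ⧸ I) :=
    Algebra.FiniteType.of_surjective (Ideal.Quotient.mkₐ k I) Ideal.Quotient.mk_surjective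
  have hgB : g ∈ Groth.L25.LargestMult.B k A := Groth.L25.LargestMult.mem_B.2 ⟨2,
    Groth.L25.LargestMult.mem_N_succ_iff.2 ⟨(⟨1, Groth.L25.LargestMult.one_mem_N⟩ : Groth.L25.LargestMult.N k A 1) ⊗ₜ g, by
      rw [LinearMap.rTensor_tmul, show Coalgebra.comul (R := k) g = _ from hg, add_sub_cancel_left]
      rfl⟩⟩
  have hne : Ideal.Quotient.mk I g ≠ 0 := fun h => h0 <| Groth.L25.LargestMult.split_injective (k := k) (A := A) <| by
    rw [Groth.L25.LargestMult.map_mk_comul_right hgB, h, TensorProduct.tmul_zero, map_zero]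
  have hgbar : IsPrim (k := k) (π g) := by
    show Coalgebra.comul (R := k) (π g) = _
    rw [← CoalgHomClass.map_comp_comul_apply π g, show Coalgebra.comul (R := k) g = _ from hg, map_add,
      TensorProduct.map_tmul, TensorProduct.map_tmul]
    simp
  obtain ⟨w, hw, hwg⟩ := exists_tangent hgbar hne
  let D : A →ₗ[k] k := (w (π g))⁻¹ • (w ∘ₗ (π : A →ₐ[k] A ⧸ I).toLinearMap)
  have hπε : ∀ a : A, Bialgebra.counitAlgHom k (A ⧸ I) (π a) = Bialgebra.counitAlgHom k A a := fun a =>
    CoalgHomClass.counit_comp_apply π a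
  have hD : IsTangent k A D := fun a b => by
    show (w (π g))⁻¹ * w (π (a * b)) = _ * ((w (π g))⁻¹ * w (π b)) + _ * ((w (π g))⁻¹ * w (π a))
    rw [map_mul, hw, hπε, hπε]
    ring
  have hD1 : D 1 = 0 := by
    have h := hD 1 1
    rw [one_mul, map_one (Bialgebra.counitAlgHom k _), one_mul] at h
    exact left_eq_add.1 h
  have hDg : D g = 1 := inv_mul_cancel₀ hwg
  have hC : ∀ c ∈ Groth.L25.LargestMult.C₀ k A, fAct A D c = 0 := fun c hc => by
    obtain ⟨z, hz⟩ := (Groth.L25.LargestMult.isHopfSubalgebra_C₀ (k := k) (A := A)).1 c hc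
    show TensorProduct.rid k A (D.lTensor A (Coalgebra.comul (R := k) c)) = 0
    rw [← hz]
    clear hz
    induction z using TensorProduct.induction_on with
    | zero => simp
    | add p q hp hq => simp only [map_add, hp, hq, add_zero]
    | tmul p q =>
      have hq : D q = 0 := by
        show (w (π g))⁻¹ * w (Ideal.Quotient.mk I q) = 0
        rw [Groth.L25.LargestMult.mk_I_eq q.2, Algebra.algebraMap_eq_smul_one, map_smul]
        have h := hw 1 1
        rw [one_mul, map_one (Bialgebra.counitAlgHom k _), one_mul] at h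
        rw [left_eq_add.1 h, smul_zero, mul_zero]
      simp [hq]
  have hN : ∀ n, ∀ b ∈ Groth.L25.LargestMult.N k A n, (fAct A D ^ n) b = 0 := by
    intro n
    induction n with
    | zero => intro b hb; simpa [Groth.L25.LargestMult.N] using hb
    | succ n ih =>
      intro b hb
      have h := Groth.L25.LargestMult.mem_N_succ.1 hb D
      rw [hD1, zero_smul, sub_zero] at h
      rw [pow_succ_apply']
      exact ih _ h
  refine ⟨D, hD, ?_, fun a => ?_⟩
  · show TensorProduct.rid k A (D.lTensor A (Coalgebra.comul (R := k) g)) = 1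
    rw [show Coalgebra.comul (R := k) g = _ from hg]
    simp [hD1, hDg]
  · have ha : a ∈ Submodule.span k {x : A | ∃ c ∈ Groth.L25.LargestMult.C₀ k A,
        ∃ b ∈ Groth.L25.LargestMult.B k A, x = c * b} :=
      Groth.L25.LargestMult.eq_top_mul (k := k) (A := A) ▸ Submodule.mem_top
    induction ha using Submodule.span_induction with
    | zero => exact ⟨0, map_zero _⟩
    | smul r x _ hx =>
      obtain ⟨N, hN'⟩ := hx
      exact ⟨N, by rw [map_smul, hN', smul_zero]⟩
    | add x y _ _ hx hy =>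
      obtain ⟨N, hN'⟩ := hx
      obtain ⟨M, hM'⟩ := hy
      refine ⟨M + N, ?_⟩
      have h1 : (fAct A D ^ (M + N)) x = 0 := by rw [pow_add, Module.End.mul_apply, hN', map_zero]
      have h2 : (fAct A D ^ (M + N)) y = 0 := by rw [add_comm, pow_add, Module.End.mul_apply, hM', map_zero]
      rw [map_add, h1, h2, add_zero]
    | mem z hz =>
      obtain ⟨c, hc, b, hb, rfl⟩ := hz
      obtain ⟨n, hn⟩ := Groth.L25.LargestMult.mem_B.1 hb
      refine ⟨n, ?_⟩
      have : ∀ (m : ℕ) (b : A), (fAct A D ^ m) (c * b) = c * (fAct A D ^ m) b := by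
        intro m
        induction m with
        | zero => intro b; rfl
        | succ m ihm =>
          intro b
          rw [pow_succ_apply', fAct_leibniz hD, hC c hc, smul_zero, add_zero, smul_eq_mul, ihm, ← pow_succ_apply']
      rw [this, hN n b hn, mul_zero]

/-- **the step in characteristic zero**: a nonzero primitive splits off an additive group -/
theorem bidualIso_of_prim_charZero {g : A} (hg : IsPrim (k := k) g) (h0 : g ≠ 0)
    (hrec : ∀ (Q : Type u) [CommRing Q] [HopfAlgebra k Q] (π : A →ₐc[k] Q) [Coalgebra.IsCocomm k Q],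
      Function.Surjective π → RingHom.ker (π : A →+* Q) ≠ ⊥ →
      BidualIso (CGrpSh.pts Kf (P k Q)) (CGrpSh2.Gm Kf (Spec (CommRingCat.of k)))) :
    BidualIso (CGrpSh.pts Kf (P k A)) (CGrpSh2.Gm Kf (Spec (CommRingCat.of k))) := by
  obtain ⟨D, hD, hDg, hnil⟩ := exists_nilpotent_tangent hg h0
  let B := Algebra.adjoin k {g}
  letI := Groth.L25.HopfSub.hopfAlgebra (isHopfSubalgebra_adjoin hg)
  let ψ : B →ₐc[k] A := Groth.L25.HopfSub.inclBialg (isHopfSubalgebra_adjoin hg)
  have hψ : Function.Injective ψ := Subtype.val_injective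
  have hinj2 : Function.Injective (TensorProduct.map (ψ : B →ₗ[k] A) (ψ : B →ₗ[k] A)) :=
    TensorProduct.map_injective_of_flat_flat _ _ hψ hψ
  haveI : Coalgebra.IsCocomm k B := ⟨LinearMap.ext fun b => hinj2 (by
    rw [LinearMap.comp_apply, CoalgHomClass.map_comp_comul_apply]
    show TensorProduct.map (ψ : B →ₗ[k] A) (ψ : B →ₗ[k] A) (TensorProduct.comm k B B (Coalgebra.comul b)) = _
    rw [TensorProduct.map_comm, CoalgHomClass.map_comp_comul_apply, Coalgebra.comm_comul])⟩
  haveI : Algebra.FiniteType k B := (Subalgebra.fg_iff_finiteType _).1 ⟨{g}, by rw [Finset.coe_singleton]⟩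
  let g' : B := ⟨g, Algebra.self_mem_adjoin_singleton k g⟩
  have hg' : IsPrim (k := k) g' := hinj2 (by
    rw [CoalgHomClass.map_comp_comul_apply, map_add, TensorProduct.map_tmul, TensorProduct.map_tmul]
    exact hg)
  have hsurj : Function.Surjective (aeval g' : k[X] →ₐ[k] B) := fun b => by
    obtain ⟨q, hq⟩ := (Algebra.adjoin_singleton_eq_range_aeval k g).le b.2
    exact ⟨q, Subtype.ext ((Polynomial.aeval_algHom_apply B.val g' q).symm.trans hq)⟩
  have hinj : Function.Injective (aeval g' : k[X] →ₐ[k] B) :=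
    aeval_injective_of_prim hg' fun h => h0 (congrArg Subtype.val h)
  have hB : BidualIso (CGrpSh.pts Kf (P k B)) (CGrpSh2.Gm Kf (Spec (CommRingCat.of k))) := by
    obtain ⟨e⟩ := Groth.L07.ExtShAff.nonempty_iso_Ga hg' ⟨hinj, hsurj⟩
    refine bidualIso_of_iso e (Groth.Agent.S13466.result _ fun n hn => ?_)
    rw [← map_natCast (Scheme.ΓSpecIso (CommRingCat.of k)).inv.hom]
    exact (IsUnit.mk0 (n : k) (Nat.cast_ne_zero.2 hn.ne')).map _
  have hEg : expHom hD hnil g = X := Polynomial.ext fun n => by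
    rw [expHom_apply, coeff_expPol, coeff_X]
    rcases n with _ | _ | n
    · simp [hg.counit]
    · rw [pow_one, hDg, map_one]; simp
    · rw [pow_succ_apply', hDg, pow_succ_apply', fAct_one' hD, map_zero, map_zero, mul_zero, if_neg (by omega)]
  let θ : A →ₐ[k] B := (aeval g').comp (expHom hD hnil)
  let σ : P k B ⟶ P k A := spA θ
  have hθ : θ.comp (ψ : B →ₐ[k] A) = AlgHom.id k B := by
    refine AlgHom.ext fun b => ?_
    obtain ⟨q, rfl⟩ := hsurj b
    refine AlgHom.congr_fun (Polynomial.algHom_ext (f := (θ.comp (ψ : B →ₐ[k] A)).comp (aeval g'))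
      (g := aeval g') ?_) q
    show aeval g' (expHom hD hnil (ψ (aeval g' X))) = aeval g' X
    rw [aeval_X, show ψ g' = g from rfl, hEg, aeval_X]
  have hmul : ∀ {W : Over (Spec (CommRingCat.of k))} (t t' : W ⟶ P k B), (t * t') ≫ σ = (t ≫ σ) * (t' ≫ σ) := by
    intro W t t'
    let x : B →ₐ[k] B ⊗[k] B := includeLeft
    let y : B →ₐ[k] B ⊗[k] B := includeRight
    obtain ⟨P₂, h₀⟩ : ∃ P₂ : W ⟶ SP k (B ⊗[k] B), lift t t' = P₂ ≫ lift (toPt (toConv x)) (toPt (toConv y)) := by
      refine ⟨lift t t' ≫ inv (prodSP k B B), ?_⟩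
      show _ = _ ≫ prodSP k B B
      exact (IsIso.inv_hom_id (prodSP k B B) ▸ (Category.comp_id (lift t t')).symm).trans (Category.assoc _ _ _).symm
    have ht : t = P₂ ≫ toPt (toConv x) := by
      have := congrArg (· ≫ fst _ _) h₀
      simpa using this
    have ht' : t' = P₂ ≫ toPt (toConv y) := by
      have := congrArg (· ≫ snd _ _) h₀
      simpa using this
    rw [ht, ht', ← MonObj.comp_mul, Category.assoc, Category.assoc, Category.assoc, ← MonObj.comp_mul]
    congr 1
    have hsp : ∀ z : B →ₐ[k] B ⊗[k] B, (toPt (toConv z) : SP k (B ⊗[k] B) ⟶ P k B) ≫ σ = toPt (toConv (z.comp θ)) :=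
      fun z => Groth.L07.ExtShAff.spA_comp θ z
    rw [Groth.L07.ExtShAff.toPt_mulPt, hsp, hsp, hsp, Groth.L07.ExtShAff.toPt_mulPt]
    refine congrArg toPt (congrArg toConv ?_)
    have hz : ∀ z : B →ₐ[k] B ⊗[k] B, z.comp θ = (aeval (z g')).comp (expHom hD hnil) := fun z =>
      AlgHom.ext fun a => (Polynomial.aeval_algHom_apply z g' _).symm
    rw [hz, hz, hz, mulPt_expHom, Groth.L07.ExtShAff.mulPt_prim hg']
  haveI : IsMonHom σ := by
    refine { one_hom := ?_, mul_hom := ?_ }
    · have h := hmul (1 : 𝟙_ (Over (Spec (CommRingCat.of k))) ⟶ P k B) 1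
      rw [_root_.one_mul] at h
      have h1 : (1 : 𝟙_ (Over (Spec (CommRingCat.of k))) ⟶ P k B) ≫ σ = 1 := left_eq_mul.1 h
      rw [Hom.one_def, Hom.one_def, toUnit_unique (toUnit (𝟙_ (Over (Spec (CommRingCat.of k))))) (𝟙 _),
        Category.id_comp, Category.id_comp] at h1
      exact h1
    · rw [MonObj.mul_eq_mul, hmul, tensorHom_def]
      rw [MonObj.mul_eq_mul, MonObj.comp_mul]
      congr 1
      · simp
      · simp
  have hne : RingHom.ker (kq ψ : A →+* A ⧸ kerIdeal ψ) ≠ ⊥ := fun hbot => h0 (by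
    have : g ∈ RingHom.ker (kq ψ : A →+* A ⧸ kerIdeal ψ) := by
      rw [RingHom.mem_ker]
      exact Ideal.Quotient.eq_zero_iff_mem.2 (Ideal.mem_map_of_mem _ (show g' ∈ _ from hg'.counit))
    rwa [hbot] at this)
  let T := CGrpSh.seq Kf (sp (kq ψ)) (sp ψ) (Groth.L07.ExtShAff.sp_kq_comp_sp ψ)
  have hT : T.ShortExact := shortExact_seq ψ hψ
  haveI : Mono T.f := hT.mono_f
  have hs : CGrpSh.ptsMap Kf σ ≫ T.g = 𝟙 T.X₃ := by
    show CGrpSh.ptsMap Kf σ ≫ CGrpSh.ptsMap Kf (sp ψ) = 𝟙 _
    rw [← CGrpSh.ptsMap_comp]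
    have : σ ≫ sp ψ = 𝟙 _ := by
      rw [Groth.L07.ExtShAff.spA_bialg]
      refine (Groth.L07.ExtShAff.spA_comp (ψ : B →ₐ[k] A) θ).trans ?_
      rw [hθ]
      exact Over.OverMorphism.ext (Spec.map_id _)
    simp only [this]
    exact CGrpSh.ptsMap_id _
  exact bidualIso_of_splitting (ShortComplex.Splitting.ofExactOfSection T hT.exact (CGrpSh.ptsMap Kf σ) hs inferInstance)
    (hrec _ (kq ψ) (kq_surjective ψ) hne) hB

end Groth.L07.DDAff
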