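import Groth.Agent.L07.ExtShAff.Main
import Groth.Agent.L08.DoubleDual.Main
import Groth.Agent.L07.GaDD.Sheaf

/-!
# Locality and dévissage tools for double duality
-/

universe u

open CategoryTheory CategoryTheory.Limits AlgebraicGeometry Opposite
open Groth.L08.DoubleDual (restr dMap dual exact_dual epi_dMap mono_dMap bidual_natural)

set_option autoImplicit false
set_option backward.defeqAttrib.useBackward true
set_option backward.isDefEq.respectTransparency false
set_option backward.isDefEq.respectTransparency.types false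
set_option linter.style.haveILetI false
set_option maxHeartbeats 1000000

noncomputable section

namespace Groth.L07.DDAff

local notation "Kf" => Scheme.fppfPrecoverage

variable {S : Scheme.{u}}

local notation "J" => QuotSh.J Kf S
local notation "res" => GrothendieckTopology.overPullback (QuotSh.J Scheme.fppfPrecoverage S) AddCommGrpCat

/-- the double duality map is an isomorphism -/
def BidualIso (F M : BigSite.Ab Kf S) : Prop := IsIso (HomSh.bidualMap J F M)

variable {F G M : BigSite.Ab Kf S}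

/-- morphisms bijective on sections locally are isomorphisms -/
theorem isIso_of_locally (α : F ⟶ G)
    (h : ∀ X : Over S, ∃ Rs ∈ (QuotSh.J Kf S) X, ∀ ⦃X' : Over S⦄ (a : X' ⟶ X), Rs a →
      Function.Bijective (α.hom.app (op X'))) : IsIso α := by
  haveI : Mono α := Groth.L07.BiextTriv.mono_of_injective α fun X a b hab => by
    obtain ⟨Rs, hRs, hR⟩ := h X
    refine Groth.L07.BiextTriv.eq_of_locally F hRs a b fun T c hc => (hR c hc).1 ?_
    rw [NatTrans.naturality_apply α.hom, NatTrans.naturality_apply α.hom, hab]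
  haveI : Epi α := by
    rw [← Sheaf.isLocallySurjective_iff_epi']
    refine ⟨fun {X} y => ?_⟩
    obtain ⟨Rs, hRs, hR⟩ := h X
    refine GrothendieckTopology.superset_covering _ (fun T c hc => ?_) hRs
    obtain ⟨x, hx⟩ := (hR c hc).2 (G.obj.map c.op y)
    exact ⟨x, hx⟩
  exact isIso_of_mono_of_epi α

theorem bijective_of_isIso (α : F ⟶ G) [IsIso α] (X : Over S) : Function.Bijective (α.hom.app (op X)) := by
  haveI : IsIso (α.hom.app (op X)) :=
    inferInstanceAs (IsIso (((sheafToPresheaf J _).map α).app (op X)))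
  exact (ConcreteCategory.isIso_iff_bijective _).1 inferInstance

theorem ev_restr {Y Z : Over S} (φ : F.over Y ⟶ G.over Y) (b : Z ⟶ Y) (s : F.obj.obj (op Y)) :
    HomSh.ev J (restr b φ) (F.obj.map b.op s) = G.obj.map b.op (HomSh.ev J φ s) := by
  refine (HomSh.app_over_mk_congr J φ (Category.id_comp b) _).trans ?_
  exact NatTrans.naturality_apply φ.hom (Over.homMk b (Category.comp_id b) : Over.mk b ⟶ Over.mk (𝟙 Y)).op s

variable (M) in
/-- precomposition with a local morphism, as a morphism of local duals -/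
def preOver {Y : Over S} (e : F.over Y ⟶ G.over Y) :
    (HomSh.homSh J G M).over Y ⟶ (HomSh.homSh J F M).over Y :=
  ⟨{ app := fun U => AddCommGrpCat.ofHom
      { toFun := fun ψ => restr (unop U).hom e ≫ ψ
        map_zero' := comp_zero
        map_add' := fun ψ ψ' => Preadditive.comp_add _ _ _ _ _ _ }
     naturality := fun U U' f => AddCommGrpCat.ext fun ψ => by
      show restr (unop U').hom e ≫ restr f.unop.left ψ = restr f.unop.left (restr (unop U).hom e ≫ ψ)
      rw [show restr (unop U').hom e = restr (f.unop.left ≫ (unop U).hom) e by rw [Over.w],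
        ← Groth.L07.ExtShGa.restr_restr (unop U).hom f.unop.left e]
      exact (((QuotSh.J Kf S).overMapPullback _ f.unop.left).map_comp _ _).symm }⟩

theorem evalSect_transfer {Y : Over S} (e : F.over Y ≅ G.over Y) (s : F.obj.obj (op Y)) :
    preOver M e.hom ≫ HomSh.evalSect J (M := M) s = HomSh.evalSect J (HomSh.ev J e.hom s) := by
  refine Sheaf.hom_ext (NatTrans.ext (funext fun U => AddCommGrpCat.ext fun ψ => ?_))
  show HomSh.ev J (restr (unop U).hom e.hom ≫ ψ) (F.obj.map (unop U).hom.op s) =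
    HomSh.ev J ψ (G.obj.map (unop U).hom.op (HomSh.ev J e.hom s))
  rw [← ev_restr]
  rfl

theorem preOver_comp_inv {Y : Over S} (e : F.over Y ≅ G.over Y) :
    preOver M e.inv ≫ preOver M e.hom = 𝟙 ((HomSh.homSh J F M).over Y) := by
  refine Sheaf.hom_ext (NatTrans.ext (funext fun U => AddCommGrpCat.ext fun ψ => ?_))
  show restr (unop U).hom e.hom ≫ restr (unop U).hom e.inv ≫ ψ = ψ
  rw [← Category.assoc]
  show (((QuotSh.J Kf S).overMapPullback _ _).map e.hom ≫ ((QuotSh.J Kf S).overMapPullback _ _).map e.inv) ≫ _ = _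
  rw [← Functor.map_comp, e.hom_inv_id, CategoryTheory.Functor.map_id]
  exact Category.id_comp _

theorem bijective_transfer {Y : Over S} (e : F.over Y ≅ G.over Y)
    (h : Function.Bijective ((HomSh.bidualMap J G M).hom.app (op Y))) :
    Function.Bijective ((HomSh.bidualMap J F M).hom.app (op Y)) := by
  have hev : ∀ {A B C : BigSite.Ab Kf S} (f : A.over Y ⟶ B.over Y) (g : B.over Y ⟶ C.over Y) (s : A.obj.obj (op Y)),
      HomSh.ev J (f ≫ g) s = HomSh.ev J g (HomSh.ev J f s) := fun _ _ _ => rfl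
  refine ⟨fun s s' hss => ?_, fun Φ => ?_⟩
  · have h1 : HomSh.evalSect J (M := M) s = HomSh.evalSect J s' := hss
    have h2 : HomSh.ev J e.hom s = HomSh.ev J e.hom s' := h.1 (by
      show HomSh.evalSect J (M := M) (HomSh.ev J e.hom s) = HomSh.evalSect J (HomSh.ev J e.hom s')
      rw [← evalSect_transfer, ← evalSect_transfer, h1])
    have h3 := congrArg (HomSh.ev J e.inv) h2
    rw [← hev, ← hev, e.hom_inv_id] at h3
    exact h3
  · let Φ₀ : (HomSh.homSh J F M).over Y ⟶ M.over Y := Φ
    obtain ⟨t, ht⟩ := h.2 (preOver M e.hom ≫ Φ₀)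
    refine ⟨HomSh.ev J e.inv t, ?_⟩
    have ht' : HomSh.evalSect J (M := M) t = preOver M e.hom ≫ Φ₀ := ht
    show HomSh.evalSect J (M := M) (HomSh.ev J e.inv t) = Φ₀
    have h1 := evalSect_transfer (M := M) e (HomSh.ev J e.inv t)
    rw [← hev, e.inv_hom_id, show HomSh.ev J (𝟙 (G.over Y)) t = t from rfl, ht'] at h1
    have h2 := congrArg (preOver M e.inv ≫ ·) h1
    simp only [← Category.assoc, preOver_comp_inv] at h2
    rwa [Category.id_comp, Category.id_comp] at h2

/-- double duality isomorphisms are local on the base -/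
theorem bidualIso_of_locally
    (h : ∀ X : Over S, ∃ Rs ∈ (QuotSh.J Kf S) X, ∀ ⦃X' : Over S⦄ (a : X' ⟶ X), Rs a →
      ∃ H : BigSite.Ab Kf S, BidualIso H M ∧ Nonempty (F.over X' ≅ H.over X')) : BidualIso F M :=
  isIso_of_locally _ fun X => by
    obtain ⟨Rs, hRs, hR⟩ := h X
    refine ⟨Rs, hRs, fun X' a ha => ?_⟩
    obtain ⟨H, hH, ⟨e⟩⟩ := hR a ha
    haveI : IsIso (HomSh.bidualMap J H M) := hH
    exact bijective_transfer e (bijective_of_isIso _ X')

theorem bidualIso_of_iso (e : F ≅ G) (h : BidualIso G M) : BidualIso F M := by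
  haveI : IsIso (HomSh.bidualMap J G M) := h
  exact isIso_of_locally _ fun X => ⟨⊤, (QuotSh.J Kf S).top_mem X, fun X' _ _ =>
    bijective_transfer ((res X').mapIso e) (bijective_of_isIso _ X')⟩

theorem bidualIso_of_isZero (h : IsZero F) : BidualIso F M := by
  have hd : IsZero (HomSh.homSh J F M) := Functor.map_isZero ((HomSh.homShBi J).flip.obj M) h.op
  exact isIso_of_source_target_iso_zero _ h.isoZero (Functor.map_isZero ((HomSh.homShBi J).flip.obj M) hd.op).isoZero

/-- the kernel in a short exact sequence -/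
theorem bidualIso_left {T : ShortComplex (BigSite.Ab Kf S)} (h : T.ShortExact)
    (hExt : IsZero ((HomSh.extSh J T.X₃ 1).obj M)) (h₂ : BidualIso T.X₂ M) (h₃ : BidualIso T.X₃ M) :
    BidualIso T.X₁ M := by
  haveI : Epi T.g := h.epi_g
  haveI : Mono T.f := h.mono_f
  haveI : Epi (dual M T).g := epi_dMap M T h hExt
  haveI : IsIso (HomSh.bidualMap J T.X₂ M) := h₂
  haveI : IsIso (HomSh.bidualMap J T.X₃ M) := h₃
  let T₂ := dual M (dual M T)
  have hT₂ : T₂.Exact := exact_dual M (dual M T) (exact_dual M T h.exact)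
  haveI : Mono T₂.f := mono_dMap M (dual M T).g
  let τ : T.X₁ ⟶ T₂.X₁ := HomSh.bidualMap J T.X₁ M
  have c₁ : T.f ≫ HomSh.bidualMap J T.X₂ M = τ ≫ T₂.f := bidual_natural M T.f
  have c₂ : T.g ≫ HomSh.bidualMap J T.X₃ M = HomSh.bidualMap J T.X₂ M ≫ T₂.g := bidual_natural M T.g
  haveI : Mono (τ ≫ T₂.f) := c₁ ▸ inferInstance
  haveI : Mono τ := mono_of_mono τ T₂.f
  have hk : (T₂.f ≫ inv (HomSh.bidualMap J T.X₂ M)) ≫ T.g = 0 := by
    refine zero_of_comp_mono (HomSh.bidualMap J T.X₃ M) ?_
    rw [Category.assoc, Category.assoc, c₂, IsIso.inv_hom_id_assoc, T₂.zero]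
  refine ⟨⟨h.exact.lift _ hk, ?_, ?_⟩⟩
  · rw [← cancel_mono T.f, Category.assoc, h.exact.lift_f, ← Category.assoc, Category.id_comp, IsIso.comp_inv_eq]
    exact c₁.symm
  · rw [← cancel_mono T₂.f, Category.assoc, Category.id_comp]
    show h.exact.lift _ hk ≫ τ ≫ T₂.f = T₂.f
    rw [← c₁, ← Category.assoc, h.exact.lift_f, Category.assoc, IsIso.inv_hom_id, Category.comp_id]

/-- split extensions -/
theorem bidualIso_of_splitting {T : ShortComplex (BigSite.Ab Kf S)} (s : T.Splitting)
    (h₁ : BidualIso T.X₁ M) (h₃ : BidualIso T.X₃ M) : BidualIso T.X₂ M := by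
  let D := (HomSh.homShBi J).flip.obj M
  let DD : BigSite.Ab Kf S ⥤ BigSite.Ab Kf S := D.rightOp ⋙ D
  haveI : DD.Additive := inferInstanceAs ((D.rightOp ⋙ D).Additive)
  let φ : T ⟶ T.map DD := ShortComplex.homMk (HomSh.bidualMap J T.X₁ M) (HomSh.bidualMap J T.X₂ M)
    (HomSh.bidualMap J T.X₃ M) (bidual_natural M T.f).symm (bidual_natural M T.g).symm
  exact ShortComplex.isIso₂_of_shortExact_of_isIso₁₃' φ s.shortExact (s.map DD).shortExact h₁ h₃

end Groth.L07.DDAff
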