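import Groth.Agent.L07.DDAff.Basic
import Mathlib.RingTheory.HopfAlgebra.MonoidAlgebra
import Mathlib.RingTheory.TensorProduct.MonoidAlgebra

/-!
# Double duality of diagonalisable groups
-/

universe u

open CategoryTheory CategoryTheory.Limits AlgebraicGeometry Opposite TensorProduct
open MonoidalCategory CartesianMonoidalCategory
open scoped MonObj
open Groth.L07.GaExt (fn fn_comp fn_id)
open Groth.L07.GaDD (uG uG_add uG_zero uG_map uG_injective sG uG_sG)
open Groth.L07.ExtShGa (ofArrows_mem)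
open Groth.L07.ExtShAff (prodSP em em_bijective fn_spA spA_comp ev1 mulPt onePt)
open Groth.L08.DoubleDual (restr)
open Groth.L08.TorusQuot (SP spA toPt ofPt toPt_ofPt toPt_post)
open Groth.L25.Bridge (P)
open Algebra.TensorProduct (includeLeft includeRight)
open WithConv

set_option autoImplicit false
set_option backward.defeqAttrib.useBackward true
set_option backward.isDefEq.respectTransparency false
set_option backward.isDefEq.respectTransparency.types false
set_option linter.style.haveILetI false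
set_option maxHeartbeats 1000000
set_option synthInstance.maxHeartbeats 200000

noncomputable section

namespace Groth.L07.DDAff

local notation "Kf" => Scheme.fppfPrecoverage

instance (priority := high) isCommMonObj_Gm (S : Scheme.{u}) : IsCommMonObj (Red.Gm S) := Functor.isCommMonObj_obj

variable {k : Type u} [Field k] {B : Type u} [CommRing B] [HopfAlgebra k B]

theorem val_mul {g : B} (hg : IsGroupLikeElem k g) {W : Over (Spec (CommRingCat.of k))} (t t' : W ⟶ P k B) :
    fn (t * t') (em B g) = fn t (em B g) * fn t' (em B g) := by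
  let x : B →ₐ[k] B ⊗[k] B := includeLeft
  let y : B →ₐ[k] B ⊗[k] B := includeRight
  obtain ⟨P₂, h₀⟩ : ∃ P₂ : W ⟶ SP k (B ⊗[k] B), lift t t' = P₂ ≫ lift (toPt (toConv x)) (toPt (toConv y)) := by
    refine ⟨lift t t' ≫ inv (prodSP k B B), ?_⟩
    show _ = _ ≫ prodSP k B B
    exact (IsIso.inv_hom_id (prodSP k B B) ▸ (Category.comp_id (lift t t')).symm).trans (Category.assoc _ _ _).symm
  have ht : t = P₂ ≫ toPt (toConv x) := by
    have := congrArg (· ≫ fst _ _) h₀
    simpa using this
  have ht' : t' = P₂ ≫ toPt (toConv y) := by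
    have := congrArg (· ≫ snd _ _) h₀
    simpa using this
  rw [ht, ht', ← MonObj.comp_mul, fn_comp, fn_comp, fn_comp, Groth.L07.ExtShAff.toPt_mulPt,
    Groth.L07.ExtShAff.toPt_eq_spA, Groth.L07.ExtShAff.toPt_eq_spA, Groth.L07.ExtShAff.toPt_eq_spA, fn_spA, fn_spA,
    fn_spA, Groth.L07.ExtShAff.mulPt_groupLike hg, map_mul]
  show (fn P₂).hom _ = _
  rw [map_mul]

variable [Coalgebra.IsCocomm k B]

/-- the value of a local character at a point -/
def cval {V : Over (Spec (CommRingCat.of k))} (ψ : (CGrpSh.pts Kf (P k B)).over V ⟶ (CGrpSh2.Gm Kf _).over V)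
    {W : Over (Spec (CommRingCat.of k))} (a : W ⟶ V) (x : W ⟶ P k B) : Γ(W.left, ⊤)ˣ :=
  uG (ψ.hom.app (op (Over.mk a)) (ULift.up (Additive.ofMul x)))

section

variable {V : Over (Spec (CommRingCat.of k))} (ψ : (CGrpSh.pts Kf (P k B)).over V ⟶ (CGrpSh2.Gm Kf _).over V)

theorem cval_nat {W W' : Over (Spec (CommRingCat.of k))} (b : W' ⟶ W) (a : W ⟶ V) (x : W ⟶ P k B) :
    cval ψ (b ≫ a) (b ≫ x) = Units.map (fn b).hom.toMonoidHom (cval ψ a x) :=
  by
  have h := NatTrans.naturality_apply ψ.hom (Over.homMk b rfl : Over.mk (b ≫ a) ⟶ Over.mk a).op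
    (ULift.up (Additive.ofMul x))
  refine Eq.trans ?_ (uG_map b _)
  exact congrArg uG h

theorem cval_mul {W : Over (Spec (CommRingCat.of k))} (a : W ⟶ V) (x y : W ⟶ P k B) :
    cval ψ a (x * y) = cval ψ a x * cval ψ a y :=
  (congrArg uG (map_add (ψ.hom.app (op (Over.mk a))).hom (ULift.up (Additive.ofMul x)) (ULift.up (Additive.ofMul y)))).trans
    (uG_add _ _)

theorem cval_restr {V' : Over (Spec (CommRingCat.of k))} (c : V' ⟶ V) {W : Over (Spec (CommRingCat.of k))} (a : W ⟶ V')
    (x : W ⟶ P k B) : cval (restr c ψ) a x = cval ψ (a ≫ c) x := rfl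

theorem cval_ext {ψ' : (CGrpSh.pts Kf (P k B)).over V ⟶ (CGrpSh2.Gm Kf _).over V}
    (h : ∀ (W : Over (Spec (CommRingCat.of k))) (a : W ⟶ V) (x : W ⟶ P k B), cval ψ a x = cval ψ' a x) : ψ = ψ' :=
  Groth.L07.BiextTriv.ext_hom fun W a x => uG_injective (h W a x.down.toMul)

end

/-- a local character over a spectrum is a unit of the universal ring -/
theorem exists_repr {R : Type u} [CommRing R] [Algebra k R]
    (ψ : (CGrpSh.pts Kf (P k B)).over (SP k R) ⟶ (CGrpSh2.Gm Kf _).over (SP k R)) :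
    ∃ f : (R ⊗[k] B)ˣ,
      (∀ {W : Over (Spec (CommRingCat.of k))} (a : W ⟶ SP k R) (x : W ⟶ P k B),
        (cval ψ a x : Γ(W.left, ⊤)) = fn (lift a x ≫ inv (prodSP k R B)) (em (R ⊗[k] B) f)) ∧
      ∀ (A : Type u) [CommRing A] [Algebra k A] (φ : R →ₐ[k] A) (x y : B →ₐ[k] A),
        ev1 φ (mulPt x y) f = ev1 φ x f * ev1 φ y f := by
  obtain ⟨f, hf⟩ := Groth.L07.ExtShAff.exists_unit_eq
    (cval ψ (spA (includeLeft : R →ₐ[k] R ⊗[k] B)) (spA (includeRight : B →ₐ[k] R ⊗[k] B)))
  have h1 : ∀ {W : Over (Spec (CommRingCat.of k))} (a : W ⟶ SP k R) (x : W ⟶ P k B),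
      (cval ψ a x : Γ(W.left, ⊤)) = fn (lift a x ≫ inv (prodSP k R B)) (em (R ⊗[k] B) f) := fun {W} a x => by
    let t : W ⟶ SP k (R ⊗[k] B) := lift a x ≫ inv (prodSP k R B)
    have ht : t ≫ prodSP k R B = lift a x := (Category.assoc _ _ _).trans (by rw [IsIso.inv_hom_id, Category.comp_id])
    have ha : t ≫ spA (includeLeft : R →ₐ[k] R ⊗[k] B) = a := by
      rw [← Groth.L07.ExtShAff.prodSP_fst, ← Category.assoc, ht, lift_fst]
    have hx : (t ≫ spA (includeRight : B →ₐ[k] R ⊗[k] B) : W ⟶ P k B) = x := by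
      have := congrArg (· ≫ snd _ _) ht
      simp only [Category.assoc, Groth.L07.ExtShAff.prodSP_snd, lift_snd] at this
      exact this
    conv_lhs => rw [← ha, ← hx]
    rw [cval_nat, ← hf]
    rfl
  refine ⟨f, h1, fun A _ _ φ x y => ?_⟩
  have h2 : ∀ z : B →ₐ[k] A, (cval ψ (spA φ) (toPt (toConv z)) : Γ((SP k A).left, ⊤)) = em A (ev1 φ z f) := fun z => by
    rw [h1, Groth.L07.ExtShAff.lift1_eq, Category.assoc, IsIso.hom_inv_id, Category.comp_id, fn_spA]
  refine (em_bijective (k := k)).1 ?_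
  rw [map_mul, ← h2, ← h2, ← h2, ← Groth.L07.ExtShAff.toPt_mulPt, cval_mul, Units.val_mul]

variable {M : Type u} [CommGroup M]

local notation "kM" => MonoidAlgebra k M

/-- the unit of a monomial on points -/
def tUnit (m : M) {W : Over (Spec (CommRingCat.of k))} (x : W ⟶ P k kM) : Γ(W.left, ⊤)ˣ :=
  Units.mkOfMulEqOne (fn x (em kM (MonoidAlgebra.single m 1))) (fn x (em kM (MonoidAlgebra.single m⁻¹ 1))) (by
    show (fn x).hom _ * (fn x).hom _ = 1
    rw [← map_mul, ← map_mul, MonoidAlgebra.single_mul_single, mul_inv_cancel, mul_one,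
      show MonoidAlgebra.single (1 : M) (1 : k) = 1 from rfl, map_one, map_one])

theorem tUnit_mul (m : M) {W : Over (Spec (CommRingCat.of k))} (x y : W ⟶ P k kM) :
    tUnit m (x * y) = tUnit m x * tUnit m y :=
  Units.ext (val_mul (MonoidAlgebra.isGroupLikeElem_single_one m) x y)

/-- the value of the character of a monomial at a section -/
def tVal (m : M) {W : Over (Spec (CommRingCat.of k))} (x : (CGrpSh.pts Kf (P k kM)).obj.obj (op W)) :
    (CGrpSh2.Gm Kf (Spec (CommRingCat.of k))).obj.obj (op W) :=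
  sG (S := Spec (CommRingCat.of k)) (W := W) (tUnit m (W := W) x.down.toMul)

theorem tVal_add (m : M) {W : Over (Spec (CommRingCat.of k))} (x y : (CGrpSh.pts Kf (P k kM)).obj.obj (op W)) :
    tVal m (x + y) = tVal m x + tVal m y := by
  refine uG_injective ?_
  rw [uG_add, tVal, tVal, tVal, uG_sG, uG_sG, uG_sG]
  exact tUnit_mul m x.down.toMul y.down.toMul

/-- the value of the character of a monomial, as a homomorphism -/
def tHom (m : M) (W : Over (Spec (CommRingCat.of k))) : (CGrpSh.pts Kf (P k kM)).obj.obj (op W) →+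
    (CGrpSh2.Gm Kf (Spec (CommRingCat.of k))).obj.obj (op W) where
  toFun := tVal m
  map_zero' := by
    have h := tVal_add m (W := W) 0 0
    rw [add_zero] at h
    exact left_eq_add.1 h
  map_add' := tVal_add m

/-- the natural character of a monomial -/
def tPre (m : M) : (CGrpSh.pts Kf (P k kM)).obj ⟶ (CGrpSh2.Gm Kf (Spec (CommRingCat.of k))).obj where
  app W := AddCommGrpCat.ofHom (tHom m (unop W))
  naturality W W' b := AddCommGrpCat.ext fun x => uG_injective (by
    show uG (tVal m ((CGrpSh.pts Kf (P k kM)).obj.map b x)) =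
      uG ((CGrpSh2.Gm Kf (Spec (CommRingCat.of k))).obj.map b.unop.op (tVal m x))
    rw [uG_map, tVal, tVal, uG_sG, uG_sG]
    refine Units.ext ?_
    show fn (b.unop ≫ x.down.toMul) _ = fn b.unop (fn x.down.toMul _)
    rw [fn_comp])

/-- the character of a monomial -/
def tChar (m : M) : CGrpSh.pts Kf (P k kM) ⟶ CGrpSh2.Gm Kf (Spec (CommRingCat.of k)) :=
  ⟨tPre m⟩

local notation "res" => GrothendieckTopology.overPullback (QuotSh.J Scheme.fppfPrecoverage (Spec (CommRingCat.of k))) AddCommGrpCat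

theorem cval_tChar (m : M) {V W : Over (Spec (CommRingCat.of k))} (a : W ⟶ V) (x : W ⟶ P k kM) :
    cval ((res V).map (tChar m)) a x = tUnit m x := uG_sG _

/-- group-like units over `R` are locally monomials -/
theorem coeff_rel {R : Type u} [CommRing R] [Algebra k R] (f : (R ⊗[k] kM)ˣ)
    (hf : ∀ (A : Type u) [CommRing A] [Algebra k A] (φ : R →ₐ[k] A) (x y : kM →ₐ[k] A),
      ev1 φ (mulPt x y) f = ev1 φ x f * ev1 φ y f) :
    let a := (MonoidAlgebra.scalarTensorEquiv k R (f : R ⊗[k] kM)).coeff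
    (∀ m n, m ≠ n → a m * a n = 0) ∧ ∑ m ∈ a.support, a m = 1 := by
  classical
  intro a
  let g : MonoidAlgebra R M := MonoidAlgebra.scalarTensorEquiv k R (f : R ⊗[k] kM)
  have hev : ∀ (A : Type u) [CommRing A] [Algebra k A] [Algebra R A] [IsScalarTower k R A] (F : M →* A),
      ev1 (IsScalarTower.toAlgHom k R A) (MonoidAlgebra.lift k A M F) f = MonoidAlgebra.lift R A M F g := by
    intro A _ _ _ _ F
    have e : ev1 (IsScalarTower.toAlgHom k R A) (MonoidAlgebra.lift k A M F) =
        ((MonoidAlgebra.lift R A M F).restrictScalars k).comp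
          ((MonoidAlgebra.scalarTensorEquiv k R (M := M)).toAlgHom.restrictScalars k) := by
      refine Algebra.TensorProduct.ext (AlgHom.ext fun c => ?_)
        (MonoidAlgebra.algHom_ext (fun m => ?_) (Subsingleton.elim _ _))
      · show ev1 _ _ (c ⊗ₜ[k] (1 : kM)) =
          MonoidAlgebra.lift R A M F (MonoidAlgebra.scalarTensorEquiv k R (M := M) (c ⊗ₜ[k] (1 : kM)))
        rw [Algebra.TensorProduct.lift_tmul, map_one, mul_one]
        simp [Algebra.smul_def]
      · show ev1 _ _ ((1 : R) ⊗ₜ[k] MonoidAlgebra.single m (1 : k)) =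
          MonoidAlgebra.lift R A M F (MonoidAlgebra.scalarTensorEquiv k R ((1 : R) ⊗ₜ[k] MonoidAlgebra.single m (1 : k)))
        rw [Algebra.TensorProduct.lift_tmul, map_one, one_mul]
        simp
    exact AlgHom.congr_fun e _
  have hmul : ∀ (A : Type u) [CommRing A] [Algebra k A] (F F' : M →* A),
      mulPt (MonoidAlgebra.lift k A M F) (MonoidAlgebra.lift k A M F') = MonoidAlgebra.lift k A M (F * F') := by
    intro A _ _ F F'
    refine MonoidAlgebra.algHom_ext (fun m => ?_) (Subsingleton.elim _ _)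
    rw [Groth.L07.ExtShAff.mulPt_groupLike (MonoidAlgebra.isGroupLikeElem_single_one m)]
    simp
  constructor
  · intro m n hmn
    let F : M →* (MonoidAlgebra R (M × M)) := (MonoidAlgebra.of R (M × M)).comp (MonoidHom.inl M M)
    let F' : M →* (MonoidAlgebra R (M × M)) := (MonoidAlgebra.of R (M × M)).comp (MonoidHom.inr M M)
    have h := hf (MonoidAlgebra R (M × M)) (IsScalarTower.toAlgHom k R (MonoidAlgebra R (M × M))) (MonoidAlgebra.lift k (MonoidAlgebra R (M × M)) M F) (MonoidAlgebra.lift k (MonoidAlgebra R (M × M)) M F')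
    have hFF : F * F' = (MonoidAlgebra.of R (M × M)).comp ((MonoidHom.id M).prod (MonoidHom.id M)) :=
      MonoidHom.ext fun i => by
        show MonoidAlgebra.of R (M × M) (i, 1) * MonoidAlgebra.of R (M × M) (1, i) = MonoidAlgebra.of R (M × M) (i, i)
        rw [← map_mul, Prod.mk_mul_mk, one_mul, mul_one]
    have hl : ∀ φ : M →* M × M, MonoidAlgebra.lift R (MonoidAlgebra R (M × M)) M ((MonoidAlgebra.of R (M × M)).comp φ) g =
        ∑ i ∈ a.support, MonoidAlgebra.single (φ i) (a i) := fun φ => by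
      rw [MonoidAlgebra.lift_apply, Finsupp.sum]
      refine Finset.sum_congr rfl fun i _ => ?_
      simp [a, g]
    rw [hmul, hev, hev, hev, hFF, hl, hl, hl, Finset.sum_mul_sum] at h
    have hc := congrArg (fun z : (MonoidAlgebra R (M × M)) => z.coeff (m, n)) h
    simp only [MonoidAlgebra.single_mul_single, MonoidHom.prod_apply, MonoidHom.id_apply, MonoidHom.inl_apply,
      MonoidHom.inr_apply, Prod.mk_mul_mk, one_mul, mul_one, MonoidAlgebra.coeff_sum, MonoidAlgebra.coeff_single,
      Finsupp.coe_finsetSum, Finset.sum_apply, Finsupp.single_apply, Prod.ext_iff] at hc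
    rw [Finset.sum_eq_zero fun i _ => if_neg fun he => hmn (he.1.symm.trans he.2)] at hc
    simp only [ite_and] at hc
    rw [Finset.sum_eq_single m] at hc
    · rw [Finset.sum_eq_single n] at hc
      · simpa using hc.symm
      · intro j _ hj
        simp [hj]
      · intro hj
        simp [Finsupp.notMem_support_iff.1 hj]
    · intro i _ hi
      simp [hi]
    · intro hi
      simp [Finsupp.notMem_support_iff.1 hi]
  · have h := hf R (AlgHom.id k R) (MonoidAlgebra.lift k R M 1) (MonoidAlgebra.lift k R M 1)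
    rw [hmul, one_mul] at h
    have hu : IsUnit (ev1 (AlgHom.id k R) (MonoidAlgebra.lift k R M 1) (f : R ⊗[k] kM)) := f.isUnit.map _
    have h1 : ev1 (AlgHom.id k R) (MonoidAlgebra.lift k R M 1) (f : R ⊗[k] kM) = 1 :=
      (hu.mul_left_cancel (h.symm.trans (mul_one _).symm))
    rw [show AlgHom.id k R = IsScalarTower.toAlgHom k R R from AlgHom.ext fun r => rfl, hev, MonoidAlgebra.lift_apply] at h1
    simpa [Finsupp.sum] using h1

/-- local characters are locally monomials -/
theorem exists_monomial_cover {V : Over (Spec (CommRingCat.of k))}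
    (ψ : (CGrpSh.pts Kf (P k kM)).over V ⟶ (CGrpSh2.Gm Kf _).over V) :
    ∃ Rs ∈ QuotSh.J Kf (Spec (CommRingCat.of k)) V, ∀ ⦃V' : Over (Spec (CommRingCat.of k))⦄ (c : V' ⟶ V), Rs c →
      ∃ m : M, restr c ψ = (res V').map (tChar m) := by
  let L : Sieve V :=
    { arrows := fun V' c => ∃ m : M, restr c ψ = (res V').map (tChar m)
      downward_closed := fun {Y Z c} ⟨m, hm⟩ d => ⟨m, by
        rw [← Groth.L07.ExtShGa.restr_restr c d ψ]
        exact (congrArg (restr d) hm).trans rfl⟩ }
  refine ⟨L, Groth.L07.ExtShAff.covering_of_SP L fun R _ _ b => ?_, fun V' c hc => hc⟩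
  obtain ⟨f, hf, hmul⟩ := exists_repr (restr b ψ)
  obtain ⟨hort, hsum⟩ := coeff_rel f hmul
  classical
  set a := (MonoidAlgebra.scalarTensorEquiv k R (f : R ⊗[k] kM)).coeff with ha
  let S : a.support → Type u := fun m => Localization.Away (a m.1)
  haveI : ∀ m : a.support, Algebra.FinitePresentation R (S m) := fun m =>
    IsLocalization.Away.finitePresentation (a m.1)
  let j : ∀ m, SP k (S m) ⟶ SP k R := fun m => spA (IsScalarTower.toAlgHom k R (S m))
  have hfl : ∀ m, Flat (j m).left ∧ LocallyOfFinitePresentation (j m).left := fun m =>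
    Groth.L07.ExtShAff.flat_fp_specMap (R := R) (S := S m) inferInstance inferInstance
  refine GrothendieckTopology.superset_covering _ ?_ (ofArrows_mem (fun m => SP k (S m)) j (fun m => (hfl m).1)
    (fun m => (hfl m).2) fun q => ?_)
  · rintro Y _ ⟨_, d, _, ⟨m⟩, rfl⟩
    refine Sieve.downward_closed _ ?_ d
    show ∃ m₀ : M, restr (j m ≫ b) ψ = (res (SP k (S m))).map (tChar m₀)
    refine ⟨m.1, ?_⟩
    rw [← Groth.L07.ExtShGa.restr_restr b (j m) ψ]
    refine cval_ext _ fun W c x => Units.ext ?_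
    rw [cval_tChar]
    show (cval (restr (j m) (restr b ψ)) c x : Γ(W.left, ⊤)) = fn x (em kM (MonoidAlgebra.single m.1 1))
    rw [cval_restr, hf]
    let σ := MonoidAlgebra.scalarTensorEquiv k R (M := M)
    let π := Algebra.TensorProduct.map (IsScalarTower.toAlgHom k R (S m)) (AlgHom.id k kM)
    have hπ : π (f : R ⊗[k] kM) = (1 : S m) ⊗ₜ MonoidAlgebra.single m.1 1 := by
      have hu : IsUnit (algebraMap R (S m) (a m.1)) := IsLocalization.Away.algebraMap_isUnit _
      have h0 : ∀ n, n ≠ m.1 → algebraMap R (S m) (a n) = 0 := fun n hn => hu.mul_right_cancel (by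
        rw [zero_mul, ← map_mul, hort n m.1 hn, map_zero])
      have h1 : algebraMap R (S m) (a m.1) = 1 := by
        have := congrArg (algebraMap R (S m)) hsum
        rw [map_sum, map_one, Finset.sum_eq_single_of_mem m.1 m.2 fun n _ hn => h0 n hn] at this
        exact this
      rw [show (f : R ⊗[k] kM) = σ.symm (σ f) from (σ.symm_apply_apply _).symm,
        ← MonoidAlgebra.sum_coeff_single (σ (f : R ⊗[k] kM)), Finsupp.sum, map_sum, map_sum,
        Finset.sum_eq_single_of_mem m.1 m.2]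
      · rw [MonoidAlgebra.scalarTensorEquiv_symm_single, Algebra.TensorProduct.map_tmul]
        show algebraMap R (S m) (a m.1) ⊗ₜ[k] _ = _
        rw [h1]
        rfl
      · intro n _ hn
        rw [MonoidAlgebra.scalarTensorEquiv_symm_single, Algebra.TensorProduct.map_tmul]
        show algebraMap R (S m) (a n) ⊗ₜ[k] _ = 0
        rw [h0 n hn, TensorProduct.zero_tmul]
    have e : lift (c ≫ j m) x ≫ inv (prodSP k R kM) = (lift c x ≫ inv (prodSP k (S m) kM)) ≫ spA π := by
      rw [← cancel_mono (prodSP k R kM), Category.assoc, IsIso.inv_hom_id, Category.comp_id, Category.assoc,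
        Category.assoc, Groth.L07.ExtShAff.prodSP_whisker, IsIso.inv_hom_id_assoc, lift_whiskerRight]
    rw [e, fn_comp, fn_spA, hπ,
      show (1 : S m) ⊗ₜ[k] MonoidAlgebra.single m.1 (1 : k) = (includeRight : kM →ₐ[k] S m ⊗[k] kM) _ from rfl,
      ← fn_spA, ← fn_comp, Category.assoc, ← Groth.L07.ExtShAff.prodSP_snd, IsIso.inv_hom_id_assoc, lift_snd]
  · by_contra hq
    push Not at hq
    refine q.isPrime.ne_top ((Ideal.eq_top_iff_one _).2 (hsum ▸ Ideal.sum_mem _ fun m hm => ?_))
    by_contra hmq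
    exact hq ⟨m, hm⟩ (by
      show q ∈ Set.range (PrimeSpectrum.comap (algebraMap R (S ⟨m, hm⟩)))
      rw [PrimeSpectrum.localization_away_comap_range (S ⟨m, hm⟩) (a m)]
      exact hmq)

/-- the value of a morphism on a restricted local morphism -/
theorem app_restr_eq {F G : BigSite.Ab Kf (Spec (CommRingCat.of k))} {Y W : Over (Spec (CommRingCat.of k))}
    (Φ Ψ : (HomSh.homSh (QuotSh.J Kf _) F G).over Y ⟶ G.over Y) (t : F.over Y ⟶ G.over Y)
    (h : Φ.hom.app (op (Over.mk (𝟙 Y))) t = Ψ.hom.app (op (Over.mk (𝟙 Y))) t) (a : W ⟶ Y) :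
    Φ.hom.app (op (Over.mk a)) (restr a t) = Ψ.hom.app (op (Over.mk a)) (restr a t) := by
  have h₁ := NatTrans.naturality_apply Φ.hom (Over.homMk a (Category.comp_id a) : Over.mk a ⟶ Over.mk (𝟙 Y)).op t
  have h₂ := NatTrans.naturality_apply Ψ.hom (Over.homMk a (Category.comp_id a) : Over.mk a ⟶ Over.mk (𝟙 Y)).op t
  refine h₁.trans (Eq.trans ?_ h₂.symm)
  exact congrArg _ h

theorem uG_ev_tChar (m : M) {Y : Over (Spec (CommRingCat.of k))} (x : (CGrpSh.pts Kf (P k kM)).obj.obj (op Y)) :
    uG ((HomSh.evalSect (QuotSh.J Kf _) (M := CGrpSh2.Gm Kf (Spec (CommRingCat.of k))) x).hom.app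
      (op (Over.mk (𝟙 Y))) ((res Y).map (tChar m))) = tUnit m x.down.toMul := by
  show cval ((res Y).map (tChar m)) (𝟙 Y) (𝟙 Y ≫ x.down.toMul) = _
  rw [cval_tChar, Category.id_comp]

theorem tChar_mul (m n : M) : tChar (k := k) (m * n) = tChar m + tChar n :=
  Sheaf.hom_ext (NatTrans.ext (funext fun W => AddCommGrpCat.ext fun x => uG_injective (by
    show uG (tVal (W := unop W) (m * n) x) = uG (tVal (W := unop W) m x + tVal (W := unop W) n x)
    rw [uG_add, tVal, tVal, tVal, uG_sG, uG_sG, uG_sG]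
    refine Units.ext ?_
    show (fn x.down.toMul).hom _ = (fn x.down.toMul).hom _ * (fn x.down.toMul).hom _
    rw [← map_mul, ← map_mul, MonoidAlgebra.single_mul_single, one_mul])))

/-- **double duality of diagonalisable groups** -/
theorem bidualIso_diag : BidualIso (CGrpSh.pts Kf (P k kM)) (CGrpSh2.Gm Kf (Spec (CommRingCat.of k))) := by
  refine Groth.L07.GaDD.isIso_of_affine _ (fun R _ s => ?_) (fun R _ s => ?_)
  all_goals
    obtain ⟨φ, rfl⟩ : ∃ φ : CommRingCat.of k ⟶ CommRingCat.of R, Spec.map φ = s := ⟨_, Spec.map_preimage _⟩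
    letI : Algebra k R := φ.hom.toAlgebra
  · intro x x' hxx
    let Y := SP k R
    have key : ∀ m : M, tUnit m (W := Y) x.down.toMul = tUnit m (W := Y) x'.down.toMul := fun m => by
      have h := congrArg (fun Φ : (HomSh.homSh (QuotSh.J Kf _) (CGrpSh.pts Kf (P k kM))
          (CGrpSh2.Gm Kf (Spec (CommRingCat.of k)))).over Y ⟶ (CGrpSh2.Gm Kf (Spec (CommRingCat.of k))).over Y =>
        uG (Φ.hom.app (op (Over.mk (𝟙 Y))) ((res Y).map (tChar m)))) hxx
      exact (uG_ev_tChar m x).symm.trans (h.trans (uG_ev_tChar m x'))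
    have hx : ∀ z : Y ⟶ P k kM, z = toPt (toConv (ofPt z).ofConv) := fun z => (toPt_ofPt z).symm
    refine ULift.ext _ _ (congrArg Additive.ofMul ?_)
    refine (hx x.down.toMul).trans (Eq.trans ?_ (hx x'.down.toMul).symm)
    refine congrArg toPt (congrArg toConv (MonoidAlgebra.algHom_ext (fun m => ?_) (Subsingleton.elim _ _)))
    have h := congrArg Units.val (key m)
    change fn _ _ = fn _ _ at h
    rw [hx x.down.toMul, hx x'.down.toMul, Groth.L07.ExtShAff.toPt_eq_spA, Groth.L07.ExtShAff.toPt_eq_spA] at h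
    exact em_bijective.1 ((fn_spA _ _).symm.trans (h.trans (fn_spA _ _)))
  · intro Φ'
    let Y := SP k R
    let Φ : (HomSh.homSh (QuotSh.J Kf _) (CGrpSh.pts Kf (P k kM)) (CGrpSh2.Gm Kf (Spec (CommRingCat.of k)))).over Y ⟶
      (CGrpSh2.Gm Kf (Spec (CommRingCat.of k))).over Y := Φ'
    let u : M → Γ(Y.left, ⊤)ˣ := fun m => uG (Φ.hom.app (op (Over.mk (𝟙 Y))) ((res Y).map (tChar m)))
    have humul : ∀ m n, u (m * n) = u m * u n := fun m n => by
      show uG _ = uG _ * uG _
      rw [tChar_mul, Functor.map_add, ← uG_add]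
      exact congrArg uG (map_add (Φ.hom.app (op (Over.mk (𝟙 Y)))).hom _ _)
    let e : R ≃+* Γ(Y.left, ⊤) := RingEquiv.ofBijective (em R) em_bijective
    let F : M →* R := (e.symm.toRingHom.toMonoidHom.comp (Units.coeHom _)).comp (MonoidHom.mk' u humul)
    refine ⟨ULift.up (Additive.ofMul (toPt (toConv (MonoidAlgebra.lift k R M F)))), ?_⟩
    let x : (CGrpSh.pts Kf (P k kM)).obj.obj (op Y) :=
      ULift.up (Additive.ofMul (toPt (toConv (MonoidAlgebra.lift k R M F))))
    show HomSh.evalSect (QuotSh.J Kf _) x = Φ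
    refine Groth.L07.BiextTriv.ext_hom fun W a ψ => ?_
    obtain ⟨Rs, hRs, hR⟩ := exists_monomial_cover (V := W) ψ
    refine Groth.L07.BiextTriv.eq_of_locally (CGrpSh2.Gm Kf _) hRs _ _ fun T d hd => ?_
    obtain ⟨m, hm⟩ := hR d hd
    let g₁ : Over.mk (d ≫ a) ⟶ Over.mk a := Over.homMk d rfl
    refine ((NatTrans.naturality_apply (HomSh.evalSect (QuotSh.J Kf _) x).hom g₁.op ψ).symm.trans ?_).trans
      (NatTrans.naturality_apply Φ.hom g₁.op ψ)
    show (HomSh.evalSect (QuotSh.J Kf _) x).hom.app (op (Over.mk (d ≫ a))) (restr d ψ) =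
      Φ.hom.app (op (Over.mk (d ≫ a))) (restr d ψ)
    refine (congrArg _ hm).trans (Eq.trans ?_ (congrArg _ hm).symm)
    show (HomSh.evalSect (QuotSh.J Kf _) x).hom.app (op (Over.mk (d ≫ a))) (restr (d ≫ a) ((res Y).map (tChar m))) =
      Φ.hom.app (op (Over.mk (d ≫ a))) (restr (d ≫ a) ((res Y).map (tChar m)))
    refine app_restr_eq (HomSh.evalSect (QuotSh.J Kf _) x) Φ _ ?_ (d ≫ a)
    refine uG_injective ((uG_ev_tChar m x).trans (Units.ext ?_))
    show fn (toPt (toConv (MonoidAlgebra.lift k R M F))) (em kM (MonoidAlgebra.single m 1)) = (u m : Γ(Y.left, ⊤))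
    rw [Groth.L07.ExtShAff.toPt_eq_spA, fn_spA, MonoidAlgebra.lift_single, one_smul]
    exact e.apply_symm_apply _

end Groth.L07.DDAff
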