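import Groth.Agent.L07.DDAff.Basic
import Groth.Agent.L07.DDAff.Additive
import Groth.Agent.L07.ExtShAff.Prim
import Groth.Agent.S13465

/-!
# Double duality of finite groups generated by a primitive element
-/

universe u

open CategoryTheory CategoryTheory.Limits AlgebraicGeometry Opposite TensorProduct Polynomial
open scoped MonObj
open Groth.L07.GaExt (fn fn_comp)
open Groth.L07.ExtShGa (ofArrows_mem)
open Groth.L07.ExtShAff (gaMap em em_bijective fn_spA covering_of_SP isMonHom_gaMap)
open Groth.L08.TorusQuot (SP spA toPt ofPt toPt_ofPt)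
open Groth.L25.Bridge (P)
open Groth.L01.SmoothKer (IsPrim)
open WithConv

set_option autoImplicit false
set_option backward.isDefEq.respectTransparency false
set_option backward.isDefEq.respectTransparency.types false
set_option linter.style.haveILetI false
set_option maxHeartbeats 1000000
set_option synthInstance.maxHeartbeats 200000

noncomputable section

namespace Groth.L07.DDAff

local notation "Kf" => Scheme.fppfPrecoverage

variable {k : Type u} [Field k]

local notation "Sk" => Spec (CommRingCat.of k)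
local notation "GA" => CGrpSh2.Ga Scheme.fppfPrecoverage (Spec (CommRingCat.of k))

/-- the scalars as functions -/
def sc (W : Over Sk) : k →+* Γ(W.left, ⊤) := ((Scheme.ΓSpecIso (CommRingCat.of k)).inv ≫ W.hom.appTop).hom

theorem fn_sc {W W' : Over Sk} (b : W' ⟶ W) (c : k) : fn b (sc W c) = sc W' c := by
  show (W.hom.appTop ≫ b.left.appTop) _ = W'.hom.appTop _
  rw [← Scheme.Hom.comp_appTop, Over.w]

theorem sc_SP {R : Type u} [CommRing R] [Algebra k R] (c : k) : sc (SP k R) c = em R (algebraMap k R c) :=
  (ConcreteCategory.congr_hom (Scheme.ΓSpecIso_inv_naturality (CommRingCat.ofHom (algebraMap k R))) c).symm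

theorem fn_eval {W W' : Over Sk} (b : W' ⟶ W) (f : k[X]) (v : Γ(W.left, ⊤)) :
    fn b (f.eval₂ (sc W) v) = f.eval₂ (sc W') (fn b v) := by
  show (fn b).hom _ = _
  rw [hom_eval₂, show (fn b).hom.comp (sc W) = sc W' from RingHom.ext (fn_sc b)]

theorem eval_SP {R : Type u} [CommRing R] [Algebra k R] (f : k[X]) (r : R) :
    f.eval₂ (sc (SP k R)) (em R r) = em R (aeval r f) := by
  rw [aeval_def, hom_eval₂, show (em (k := k) R).comp (algebraMap k R) = sc (SP k R) from
    RingHom.ext fun c => (sc_SP c).symm]

/-- a section of the additive group -/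
def gaSec {W : Over Sk} (v : Γ(W.left, ⊤)) : (GA).obj.obj (op W) :=
  ULift.up (Additive.ofMul (Groth.L25.GaPts.ptOfElt v))

/-- the function of a section -/
def gaVal {W : Over Sk} (x : (GA).obj.obj (op W)) : Γ(W.left, ⊤) := Red.gaFn (x.down.toMul : W ⟶ Red.Ga Sk)

theorem gaVal_gaSec {W : Over Sk} (v : Γ(W.left, ⊤)) : gaVal (gaSec v) = v := Groth.L25.GaPts.gaFn_ptOfElt v

theorem gaVal_injective {W : Over Sk} : Function.Injective (gaVal (k := k) (W := W)) := fun x y h =>
  ULift.ext _ _ (congrArg Additive.ofMul (Groth.L25.GaPts.gaFn_injective h))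

theorem gaVal_add {W : Over Sk} (x y : (GA).obj.obj (op W)) : gaVal (x + y) = gaVal x + gaVal y :=
  Groth.L25.GaPts.gaFn_mul _ _

theorem gaVal_map {W W' : Over Sk} (b : W' ⟶ W) (x : (GA).obj.obj (op W)) :
    gaVal ((GA).obj.map b.op x) = fn b (gaVal x) := Groth.L25.GaPts.gaFn_comp b _

theorem gaVal_zero {W : Over Sk} : gaVal (0 : (GA).obj.obj (op W)) = 0 := Groth.L25.GaPts.gaFn_one

variable (f : k[X]) (hf : ∀ (A : Type u) [CommRing A] [Algebra k A] (x y : A), aeval (x + y) f = aeval x f + aeval y f)

/-- the endomorphism of an additive polynomial on sections -/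
def polyHom (W : Over Sk) : (GA).obj.obj (op W) →+ (GA).obj.obj (op W) :=
  AddMonoidHom.mk' (fun x => gaSec (f.eval₂ (sc W) (gaVal x))) fun x y => gaVal_injective (by
    rw [gaVal_gaSec, gaVal_add, gaVal_add, gaVal_gaSec, gaVal_gaSec]
    letI : Algebra k Γ(W.left, ⊤) := (sc W).toAlgebra
    exact hf Γ(W.left, ⊤) (gaVal x) (gaVal y))

/-- the natural endomorphism of an additive polynomial -/
def polyPre : (GA).obj ⟶ (GA).obj where
  app W := AddCommGrpCat.ofHom (polyHom f hf (unop W))
  naturality W W' b := AddCommGrpCat.ext fun x => gaVal_injective (by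
    show gaVal (gaSec (f.eval₂ (sc (unop W')) (gaVal ((GA).obj.map b.unop.op x)))) =
      gaVal ((GA).obj.map b.unop.op (gaSec (f.eval₂ (sc (unop W)) (gaVal x))))
    rw [gaVal_map, gaVal_map, gaVal_gaSec, gaVal_gaSec, fn_eval])

/-- the endomorphism of an additive polynomial -/
def polyEnd : GA ⟶ GA := ⟨polyPre f hf⟩

theorem gaVal_polyEnd {W : Over Sk} (x : (GA).obj.obj (op W)) :
    gaVal ((polyEnd f hf).hom.app (op W) x) = f.eval₂ (sc W) (gaVal x) := gaVal_gaSec _

variable {B : Type u} [CommRing B] [HopfAlgebra k B] [Coalgebra.IsCocomm k B]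

theorem ext_pt {g : B} (hsurj : Function.Surjective (aeval g : k[X] →ₐ[k] B)) {W : Over Sk} (t t' : W ⟶ P k B)
    (h : fn t (em B g) = fn t' (em B g)) : t = t' := by
  haveI : IsAffine (P k B).left := inferInstanceAs (IsAffine (Spec (CommRingCat.of B)))
  refine Over.OverMorphism.ext (ext_of_isAffine (CommRingCat.hom_ext (RingHom.ext fun c => ?_)))
  obtain ⟨b, rfl⟩ := (em_bijective (k := k) (R := B)).2 c
  obtain ⟨q, rfl⟩ := hsurj b
  show fn t (em B (aeval g q)) = fn t' (em B (aeval g q))
  rw [← eval_SP, fn_eval, fn_eval, h]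

/-- **double duality of a finite group generated by a primitive element** -/
theorem bidualIso_finite_prim (p : ℕ) [Fact p.Prime] [CharP k p] {g : B} (hg : IsPrim (k := k) g)
    (hsurj : Function.Surjective (aeval g : k[X] →ₐ[k] B)) (hint : IsIntegral k g) :
    BidualIso (CGrpSh.pts Kf (P k B)) (CGrpSh2.Gm Kf Sk) := by
  haveI := isMonHom_gaMap hg
  let f := minpoly k g
  have hf : ∀ (A : Type u) [CommRing A] [Algebra k A] (x y : A), aeval (x + y) f = aeval x f + aeval y f :=
    fun A _ _ x y => minpoly_additive hg hint x y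
  have hval : ∀ {W : Over Sk} (t : (CGrpSh.pts Kf (P k B)).obj.obj (op W)),
      gaVal ((CGrpSh.ptsMap Kf (gaMap g)).hom.app (op W) t) = fn (t.down.toMul : W ⟶ P k B) (em B g) := fun {W} t => by
    show Red.gaFn ((t.down.toMul : W ⟶ P k B) ≫ gaMap g) = _
    rw [Groth.L25.GaPts.gaFn_comp, gaMap, Groth.L25.GaPts.gaFn_ptOfElt]
    rfl
  have w : CGrpSh.ptsMap Kf (gaMap g) ≫ polyEnd f hf = 0 :=
    Sheaf.hom_ext (NatTrans.ext (funext fun W => AddCommGrpCat.ext fun t => gaVal_injective (by
      show gaVal ((polyEnd f hf).hom.app (op (unop W)) ((CGrpSh.ptsMap Kf (gaMap g)).hom.app (op (unop W)) t)) =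
        gaVal (0 : (GA).obj.obj (op (unop W)))
      rw [gaVal_polyEnd, hval, gaVal_zero, ← fn_eval, eval_SP, minpoly.aeval, map_zero]
      exact map_zero (fn _).hom)))
  let T : ShortComplex (BigSite.Ab Kf Sk) := ShortComplex.mk (CGrpSh.ptsMap Kf (gaMap g)) (polyEnd f hf) w
  have hT : T.ShortExact := by
    refine { exact := ?_, mono_f := ?_, epi_g := ?_ }
    · refine (Groth.L27.FppfCmp.exact_iff_locally _).2 fun X x hx => ?_
      let L : Sieve X :=
        { arrows := fun Y a => ∃ y : (CGrpSh.pts Kf (P k B)).obj.obj (op Y),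
            (CGrpSh.ptsMap Kf (gaMap g)).hom.app (op Y) y = (GA).obj.map a.op x
          downward_closed := fun {Y Z a} ha b => by
            obtain ⟨y, hy⟩ := ha
            refine ⟨(CGrpSh.pts Kf (P k B)).obj.map b.op y, ?_⟩
            rw [NatTrans.naturality_apply (CGrpSh.ptsMap Kf (gaMap g)).hom, hy, op_comp, Functor.map_comp,
              ConcreteCategory.comp_apply] }
      refine ⟨L, covering_of_SP L fun R _ _ b => ?_, fun Y a ha => ha⟩
      refine GrothendieckTopology.superset_covering _ (fun Y a _ => L.downward_closed (?_ : L b) a)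
        ((QuotSh.J Kf Sk).top_mem (SP k R))
      obtain ⟨r, hr⟩ := (em_bijective (k := k) (R := R)).2 (gaVal ((GA).obj.map b.op x))
      have hr0 : aeval r f = 0 := by
        refine (em_bijective (k := k)).1 ?_
        rw [map_zero, ← eval_SP, hr, gaVal_map, ← fn_eval, ← gaVal_polyEnd f hf,
          show (polyEnd f hf).hom.app (op X) x = 0 from hx, gaVal_zero]
        exact map_zero (fn b).hom
      have hker : RingHom.ker (aeval g : k[X] →ₐ[k] B) ≤ RingHom.ker (aeval r : k[X] →ₐ[k] R) := fun q hq => by
        obtain ⟨c, rfl⟩ := minpoly.dvd k g (hq : aeval g q = 0)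
        show aeval r (f * c) = 0
        rw [map_mul, hr0, zero_mul]
      refine ⟨ULift.up (Additive.ofMul (toPt (toConv (AlgHom.liftOfSurjective _ hsurj (aeval r) hker)))),
        gaVal_injective ?_⟩
      rw [hval, Groth.L07.ExtShAff.toPt_eq_spA]
      refine (fn_spA _ _).trans ?_
      rw [← hr]
      congr 1
      have := AlgHom.congr_fun (AlgHom.liftOfSurjective_comp _ hsurj (aeval r) hker) Polynomial.X
      simpa using this
    · exact Groth.L08.DoubleDual.mono_of_app _ fun W t t' h => by
        have h' := congrArg gaVal h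
        erw [hval, hval] at h'
        exact ULift.ext _ _ (congrArg Additive.ofMul (ext_pt hsurj _ _ h'))
    · rw [← Sheaf.isLocallySurjective_iff_epi']
      refine ⟨fun {X} x => covering_of_SP _ fun R _ _ b => ?_⟩
      obtain ⟨r, hr⟩ := (em_bijective (k := k) (R := R)).2 (gaVal ((GA).obj.map b.op x))
      let h : R[X] := f.map (algebraMap k R) - C r
      have hd : 0 < f.natDegree := by
        haveI : Nontrivial B := (Bialgebra.counitAlgHom k B).toRingHom.domain_nontrivial
        exact minpoly.natDegree_pos hint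
      let S := AdjoinRoot h
      rcases subsingleton_or_nontrivial R with hR | hR
      · refine GrothendieckTopology.superset_covering _ ?_ (ofArrows_mem (κ := PEmpty.{1}) (fun e => e.elim)
          (fun e => e.elim) (fun e => e.elim) (fun e => e.elim) fun q => (IsEmpty.false (α := PrimeSpectrum R) q).elim)
        rintro Y _ ⟨_, _, _, ⟨e⟩, _⟩
        exact e.elim
      have hmon : h.Monic := (minpoly.monic hint).map _ |>.sub_of_left (degree_C_le.trans_lt (by
        rw [degree_eq_natDegree ((minpoly.monic hint).map (algebraMap k R)).ne_zero,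
          (minpoly.monic hint).natDegree_map]
        exact_mod_cast hd))
      haveI : Module.Free R S := hmon.free_adjoinRoot
      haveI : Module.Finite R S := hmon.finite_adjoinRoot
      have hnat : h.natDegree = f.natDegree := by
        rw [show h = f.map (algebraMap k R) - C r from rfl, natDegree_sub_C, (minpoly.monic hint).natDegree_map]
      haveI : Nontrivial S := nontrivial_of_ne (AdjoinRoot.mk h 1) 0
        (AdjoinRoot.mk_ne_zero_of_natDegree_lt hmon one_ne_zero (by rw [natDegree_one, hnat]; exact hd))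
      obtain ⟨hfl, hfp⟩ := Groth.L07.ExtShAff.flat_fp_specMap (R := R) (S := S) inferInstance inferInstance
      refine GrothendieckTopology.superset_covering _ ?_ (ofArrows_mem (κ := PUnit.{1}) (fun _ => SP k S)
        (fun _ => spA (IsScalarTower.toAlgHom k R S)) (fun _ => hfl) (fun _ => hfp)
        fun q => ⟨PUnit.unit, PrimeSpectrum.comap_surjective_of_faithfullyFlat (B := S) q⟩)
      rintro Y _ ⟨_, d, _, ⟨⟩, rfl⟩
      refine Sieve.downward_closed _ ?_ d
      refine ⟨gaSec (em S (AdjoinRoot.root h)), gaVal_injective ?_⟩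
      show gaVal ((polyEnd f hf).hom.app (op (SP k S)) _) =
        gaVal ((GA).obj.map (spA (IsScalarTower.toAlgHom k R S) ≫ b).op x)
      rw [gaVal_polyEnd, gaVal_gaSec, eval_SP, op_comp, Functor.map_comp, ConcreteCategory.comp_apply, gaVal_map,
        ← hr, fn_spA]
      congr 1
      have h0 := AdjoinRoot.eval₂_root h
      simp only [h, eval₂_sub, eval₂_map, eval₂_C] at h0
      rw [sub_eq_zero] at h0
      rw [aeval_def, IsScalarTower.coe_toAlgHom', AdjoinRoot.algebraMap_eq, ← h0]
      congr 1
  have hp0 : (p : Γ(Sk, ⊤)) = 0 := by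
    rw [← map_natCast (Scheme.ΓSpecIso (CommRingCat.of k)).inv.hom, CharP.cast_eq_zero, map_zero]
  have hGa : BidualIso GA (CGrpSh2.Gm Kf Sk) := Groth.Agent.S13465.result Sk p hp0
  exact bidualIso_left (T := T) hT
    (Groth.L07.ExtShAff.isZero_extSh_of_liftsLoc (Groth.L07.ExtShAff.liftsLoc_Ga p hp0)) hGa hGa

end Groth.L07.DDAff
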