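import Groth.Agent.L07.DDAff.Diag
import Groth.Agent.L07.DDAff.KerGa
import Groth.Agent.L07.DDAff.CharZero

/-!
# Double duality of affine commutative groups of finite type over a field
-/

universe u

open CategoryTheory CategoryTheory.Limits AlgebraicGeometry MonObj TensorProduct Polynomial
open Groth.L07.ExtShAff (kq kq_surjective kerIdeal shortExact_seq isHopfSubalgebra_adjoin quot_induction)
open Groth.L08.TorusQuot (sp)
open Groth.L25.Bridge (P)
open Groth.L01.SmoothKer (IsPrim)

set_option autoImplicit false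
set_option backward.isDefEq.respectTransparency false
set_option backward.isDefEq.respectTransparency.types false
set_option linter.style.haveILetI false
set_option maxHeartbeats 1000000
set_option synthInstance.maxHeartbeats 200000

noncomputable section

namespace Groth.L07.DDAff

local notation "Kf" => Scheme.fppfPrecoverage

variable {k : Type u} [Field k]

local notation "GM" => CGrpSh2.Gm Scheme.fppfPrecoverage (Spec (CommRingCat.of k))

/-- groups without primitives -/
theorem bidualIso_multType {A : Type u} [CommRing A] [HopfAlgebra k A] [Coalgebra.IsCocomm k A] [Algebra.FiniteType k A]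
    (hprim : ∀ g : A, IsPrim (k := k) g → g = 0) : BidualIso (CGrpSh.pts Kf (P k A)) GM := by
  obtain ⟨k', _, _, _, _, M, _, _, q, q', h₁, h₂, hmul⟩ := Groth.L07.ExtShAff.exists_twist hprim
  refine bidualIso_of_locally fun X => ⟨_, Groth.L07.ExtShAff.covers_fst (k' := k') X, ?_⟩
  rintro X' _ ⟨_, d, _, ⟨⟩, rfl⟩
  exact ⟨_, bidualIso_diag (k := k) (M := M),
    Groth.L07.ExtShAff.nonempty_over_iso (d ≫ CartesianMonoidalCategory.snd _ _) q q' h₁ h₂ hmul⟩

/-- the step given by a primitive in positive characteristic -/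
theorem bidualIso_of_prim_charP (p : ℕ) [Fact p.Prime] [CharP k p] {A : Type u} [CommRing A] [HopfAlgebra k A]
    [Coalgebra.IsCocomm k A] [Algebra.FiniteType k A] {g : A} (hg : IsPrim (k := k) g) (h0 : g ≠ 0)
    (hrec : ∀ (Q : Type u) [CommRing Q] [HopfAlgebra k Q] (π : A →ₐc[k] Q) [Coalgebra.IsCocomm k Q],
      Function.Surjective π → RingHom.ker (π : A →+* Q) ≠ ⊥ → BidualIso (CGrpSh.pts Kf (P k Q)) GM) :
    BidualIso (CGrpSh.pts Kf (P k A)) GM := by
  let B := Algebra.adjoin k {g}
  letI := Groth.L25.HopfSub.hopfAlgebra (isHopfSubalgebra_adjoin hg)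
  let ψ : B →ₐc[k] A := Groth.L25.HopfSub.inclBialg (isHopfSubalgebra_adjoin hg)
  have hψ : Function.Injective ψ := Subtype.val_injective
  have hinj2 : Function.Injective (TensorProduct.map (ψ : B →ₗ[k] A) (ψ : B →ₗ[k] A)) :=
    TensorProduct.map_injective_of_flat_flat _ _ hψ hψ
  haveI : Coalgebra.IsCocomm k B := ⟨LinearMap.ext fun b => hinj2 (by
    rw [LinearMap.comp_apply, CoalgHomClass.map_comp_comul_apply]
    show TensorProduct.map (ψ : B →ₗ[k] A) (ψ : B →ₗ[k] A) (TensorProduct.comm k B B (Coalgebra.comul b)) = _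
    rw [TensorProduct.map_comm, CoalgHomClass.map_comp_comul_apply, Coalgebra.comm_comul])⟩
  haveI : Algebra.FiniteType k B := (Subalgebra.fg_iff_finiteType _).1 ⟨{g}, by rw [Finset.coe_singleton]⟩
  let g' : B := ⟨g, Algebra.self_mem_adjoin_singleton k g⟩
  have hg' : IsPrim (k := k) g' := hinj2 (by
    rw [CoalgHomClass.map_comp_comul_apply, map_add, TensorProduct.map_tmul, TensorProduct.map_tmul]
    exact hg)
  have hsurj : Function.Surjective (aeval g' : k[X] →ₐ[k] B) := fun b => by
    obtain ⟨q, hq⟩ := (Algebra.adjoin_singleton_eq_range_aeval k g).le b.2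
    exact ⟨q, Subtype.ext ((Polynomial.aeval_algHom_apply B.val g' q).symm.trans hq)⟩
  have hB : BidualIso (CGrpSh.pts Kf (P k B)) GM := by
    by_cases hinj : Function.Injective (aeval g' : k[X] →ₐ[k] B)
    · obtain ⟨e⟩ := Groth.L07.ExtShAff.nonempty_iso_Ga hg' ⟨hinj, hsurj⟩
      refine bidualIso_of_iso e (Groth.Agent.S13465.result _ p ?_)
      rw [← map_natCast (Scheme.ΓSpecIso (CommRingCat.of k)).inv.hom, CharP.cast_eq_zero, map_zero]
    · refine bidualIso_finite_prim p hg' hsurj ?_
      obtain ⟨q, hq, hq0⟩ : ∃ q : k[X], aeval g' q = 0 ∧ q ≠ 0 := by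
        by_contra hne
        push Not at hne
        exact hinj ((injective_iff_map_eq_zero _).2 hne)
      exact isAlgebraic_iff_isIntegral.1 ⟨q, hq0, hq⟩
  have hne : RingHom.ker (kq ψ : A →+* A ⧸ kerIdeal ψ) ≠ ⊥ := fun hbot => h0 (by
    have : g ∈ RingHom.ker (kq ψ : A →+* A ⧸ kerIdeal ψ) := by
      rw [RingHom.mem_ker]
      exact Ideal.Quotient.eq_zero_iff_mem.2 (Ideal.mem_map_of_mem _ (show g' ∈ _ from hg'.counit))
    rwa [hbot] at this)
  let T := CGrpSh.seq Kf (sp (kq ψ)) (sp ψ) (Groth.L07.ExtShAff.sp_kq_comp_sp ψ)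
  exact Groth.L08.DoubleDual.isIso_bidual GM T (shortExact_seq ψ hψ)
    (Groth.L07.ExtShAff.isZero_extSh_of_liftsLoc (Groth.L07.ExtShAff.liftsLoc_hopf p (A := B)))
    (hrec _ (kq ψ) (kq_surjective ψ) hne) hB

/-- double duality for every cocommutative Hopf algebra of finite type -/
theorem bidualIso_hopf {A : Type u} [CommRing A] [HopfAlgebra k A] [Algebra.FiniteType k A] [Coalgebra.IsCocomm k A] :
    BidualIso (CGrpSh.pts Kf (P k A)) GM := by
  suffices H : ∀ [Coalgebra.IsCocomm k A], BidualIso (CGrpSh.pts Kf (P k A)) GM from H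
  refine quot_induction (k := k) (A := A)
    (fun Q hQ₁ hQ₂ => ∀ [Coalgebra.IsCocomm k Q], BidualIso (CGrpSh.pts Kf (@P k _ Q hQ₁ hQ₂)) GM) ?_
  intro Q _ _ _ _ π hπ hrec _
  by_cases hprim : ∀ g : Q, IsPrim (k := k) g → g = 0
  · exact bidualIso_multType hprim
  · push Not at hprim
    obtain ⟨g, hg, h0⟩ := hprim
    obtain ⟨p, hp⟩ := CharP.exists k
    rcases CharP.char_is_prime_or_zero k p with hpp | rfl
    · haveI := hp
      haveI : Fact p.Prime := ⟨hpp⟩
      exact bidualIso_of_prim_charP p hg h0 fun Q' _ _ π' _ hπ' hne => hrec Q' π' hπ' hne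
    · haveI := hp
      haveI : CharZero k := CharP.charP_to_charZero k
      exact bidualIso_of_prim_charZero hg h0 fun Q' _ _ π' _ hπ' hne => hrec Q' π' hπ' hne

/-- **double duality of affine commutative groups of finite type** -/
theorem bidualIso_affine (G : Over (Spec (CommRingCat.of k))) [GrpObj G]
    [IsCommMonObj G] [IsAffine G.left] [LocallyOfFiniteType G.hom] : BidualIso (CGrpSh.pts Kf G) GM := by
  obtain ⟨B, _, _, _, e, he⟩ := Groth.L08.CharSurj.exists_P (H := G)
  haveI := he
  haveI := Groth.L08.CharSurj.isCocomm e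
  haveI : IsMonHom e.inv := inferInstance
  refine bidualIso_of_iso ?_ (bidualIso_hopf (A := B))
  exact
    { hom := CGrpSh.ptsMap Kf e.inv
      inv := CGrpSh.ptsMap Kf e.hom
      hom_inv_id := by
        rw [← CGrpSh.ptsMap_comp]
        simp only [Iso.inv_hom_id]
        exact CGrpSh.ptsMap_id _
      inv_hom_id := by
        rw [← CGrpSh.ptsMap_comp]
        simp only [Iso.hom_inv_id]
        exact CGrpSh.ptsMap_id _ }

end Groth.L07.DDAff
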